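import Cfsg.Agent.Chev.Ree.Fixed

/-! Structure of the small Ree groups: `U¹`, `H¹`, the order, the Tits system, perfectness. -/

set_option autoImplicit false
set_option linter.dupNamespace false

open Cfsg.Lie
open scoped commutatorElement

namespace Cfsg.Lib.Chev.Ree

namespace Ree

variable {K : Type*} [Field K] [Fintype K] (X : Ree K)
include X

theorem e_pos : 0 < X.e := Nat.pow_pos (by norm_num)

theorem mem_U1_iff {g : GL chevG2.Idx K} :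
    g ∈ chevG2.posUnipotent K ⊓ X.G1 ↔ ∃ t u v, g = X.uu t u v := by
  have := charP_three X.hK
  constructor
  · rintro ⟨hU, hG⟩
    exact (X.U_fixed hU).1 (X.G1_le hG).2
  · rintro ⟨t, u, v, rfl⟩
    exact ⟨X.uu_mem_U _ _ _, X.uu_mem_G1 _ _ _⟩

theorem uu_inj {t u v t' u' v' : K} (h : X.uu t u v = X.uu t' u' v') : t = t' ∧ u = u' ∧ v = v' := by
  have := charP_three X.hK
  obtain ⟨-, h2, -, -, h5, h6⟩ := w6_inj h
  exact ⟨h2, h5, h6⟩

theorem uu_zero_eq_one : X.uu 0 0 0 = 1 := by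
  simp [uu, w6, zero_pow (X.e_pos).ne', SG.ok.xG_zero]

theorem card_U1 : Nat.card ↥(chevG2.posUnipotent K ⊓ X.G1) = Fintype.card K ^ 3 := by
  rw [← Nat.card_eq_of_bijective (fun p : K × K × K => (⟨X.uu p.1 p.2.1 p.2.2, X.mem_U1_iff.2 ⟨_, _, _, rfl⟩⟩ :
    ↥(chevG2.posUnipotent K ⊓ X.G1))) ⟨fun p q h => ?_, fun g => ?_⟩]
  · simp [Nat.card_prod]; ring
  · obtain ⟨h1, h2, h3⟩ := X.uu_inj (congrArg Subtype.val h)
    exact Prod.ext h1 (Prod.ext h2 h3)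
  · obtain ⟨t, u, v, h⟩ := X.mem_U1_iff.1 g.2
    exact ⟨(t, u, v), Subtype.ext h.symm⟩

theorem H1_eq : chevG2.diagonalSubgroup K ⊓ X.G1 = X.hh.range := by rw [X.G1_eq, X.H_fixed]

theorem hh_diag (s : Kˣ) : X.hh s ∈ chevG2.diagonalSubgroup K :=
  (Subgroup.mem_inf.1 (show X.hh s ∈ chevG2.diagonalSubgroup K ⊓ X.G1 by rw [X.H1_eq]; exact ⟨s, rfl⟩)).1

theorem card_H1 : Nat.card ↥(chevG2.diagonalSubgroup K ⊓ X.G1) = Fintype.card K - 1 := by
  rw [X.H1_eq, ← Nat.card_congr (MonoidHom.ofInjective X.hh_injective).toEquiv, Nat.card_units,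
    Nat.card_eq_fintype_card]

theorem cyclic_H1 : IsCyclic ↥(chevG2.diagonalSubgroup K ⊓ X.G1) := by
  rw [X.H1_eq]
  exact isCyclic_of_surjective _ X.hh.rangeRestrict_surjective

theorem n0_act : ∃ L, Act SG.ok X.n0 (SG.wpL L) ∧ ∀ r : Fin chevG2.nroots, (SG.wpL L r).val = 11 - r.val :=
  X.nn2_act one_ne_zero

omit [Fintype K] X in
theorem U_le_Psi {L : List (Fin chevG2.rank)} (hL : ∀ r : Fin chevG2.nroots, (SG.wpL L r).val = 11 - r.val) :
    chevG2.posUnipotent K ≤ SG.UPsi K (Struct.Neg chevG2 (SG.wpL L)) := by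
  refine Subgroup.closure_mono ?_
  rintro x ⟨r, t, hr, hx⟩
  obtain ⟨h6, h12⟩ := SG.isPos_iff.1 hr
  refine ⟨⟨r, h12⟩, t, h6, ?_, SG.ok.eq_xG hx⟩
  show (SG.wpL L ⟨r, h12⟩).val < chevG2.nroots / 2
  rw [hL]
  have : chevG2.nroots = 12 := rfl
  simp only [this] at h6 h12 ⊢
  omega

/-- Uniqueness in `B n₀ U`. -/
theorem unique {b b' u u' : GL chevG2.Idx K} (hb : b ∈ chevG2.borelSubgroup K) (hb' : b' ∈ chevG2.borelSubgroup K)
    (hu : u ∈ chevG2.posUnipotent K) (hu' : u' ∈ chevG2.posUnipotent K) (e : b * X.n0 * u = b' * X.n0 * u') :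
    b = b' ∧ u = u' := by
  obtain ⟨L, ha, hL⟩ := X.n0_act
  exact SG.normal_form_unique okNeg_G2 hb hb' ha (U_le_Psi hL hu) (U_le_Psi hL hu') e

theorem diag_of_act {g : GL chevG2.Idx K} (hg : g ∈ chevG2.monomialSubgroup K) (ha : Act SG.ok g 1) :
    g ∈ chevG2.diagonalSubgroup K := by
  obtain ⟨M, hM, hiff⟩ := SG.exists_act hg
  exact hiff.1 (SG.act_unique hM ha)

omit [Fintype K] X in
theorem diag_le_mono : chevG2.diagonalSubgroup K ≤ chevG2.monomialSubgroup K := le_sup_left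

theorem n0_sq : X.n0 * X.n0 ∈ chevG2.diagonalSubgroup K := by
  obtain ⟨L, ha, hL⟩ := X.n0_act
  refine X.diag_of_act (mul_mem X.n0_mono X.n0_mono) ?_
  have h := SG.act_mul ha ha
  have e : SG.wpL L * SG.wpL L = 1 := Equiv.ext fun r => Fin.ext <| by
    have : chevG2.nroots = 12 := rfl
    have := r.isLt
    simp only [Equiv.Perm.mul_apply, Equiv.Perm.one_apply, hL]
    omega
  rwa [e] at h

theorem n0_conj {d : GL chevG2.Idx K} (hd : d ∈ chevG2.diagonalSubgroup K) :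
    X.n0 * d * X.n0⁻¹ ∈ chevG2.diagonalSubgroup K := by
  obtain ⟨L, ha, -⟩ := X.n0_act
  have hm : X.n0 * d * X.n0⁻¹ ∈ chevG2.monomialSubgroup K :=
    mul_mem (mul_mem X.n0_mono (diag_le_mono hd)) (inv_mem X.n0_mono)
  obtain ⟨M, hM, hiff⟩ := SG.exists_act hm
  have h1 := SG.act_mul hM (g' := X.n0) ha
  rw [inv_mul_cancel_right] at h1
  have h2 := SG.act_unique h1 (SG.act_mul ha (SG.act_diag hd))
  rw [mul_one] at h2
  exact hiff.1 (mul_eq_right.1 h2)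

theorem n0_conj' {d : GL chevG2.Idx K} (hd : d ∈ chevG2.diagonalSubgroup K) :
    X.n0⁻¹ * d * X.n0 ∈ chevG2.diagonalSubgroup K := by
  have h := mul_mem (mul_mem (inv_mem X.n0_sq) (X.n0_conj hd)) X.n0_sq
  simpa [mul_assoc] using h

/-- An element of `B` whose conjugate by `n₀` is in `B` is diagonal. -/
theorem inter_conj {g : GL chevG2.Idx K} (hg : g ∈ chevG2.borelSubgroup K)
    (h : X.n0⁻¹ * g * X.n0 ∈ chevG2.borelSubgroup K) : g ∈ chevG2.diagonalSubgroup K := by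
  obtain ⟨u, hu, d, hd, e⟩ := SG.borel_decomp h
  have hd' := X.n0_conj hd
  have hu' : d⁻¹ * u * d ∈ chevG2.posUnipotent K := by
    have := (Subgroup.mem_normalizer_iff.1 (SG.diag_normalises_U (inv_mem hd)) u).1 hu
    rwa [inv_inv] at this
  have e2 : g * X.n0 * 1 = X.n0 * d * X.n0⁻¹ * X.n0 * (d⁻¹ * u * d) := by
    have e3 : g * X.n0 = X.n0 * (u * d) := by rw [← e]; group
    rw [mul_one, e3]; group
  exact (X.unique hg (Subgroup.mem_sup_right hd') (one_mem _) hu' e2).1 ▸ hd'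

theorem mono_cases {n : GL chevG2.Idx K} (hn : n ∈ chevG2.monomialSubgroup K) (hG : n ∈ X.G1) :
    n ∈ chevG2.diagonalSubgroup K ∨ n * X.n0⁻¹ ∈ chevG2.diagonalSubgroup K := by
  obtain ⟨L, ha, hiff⟩ := SG.exists_act hn
  rcases X.w_fixed hn (one_mem _) (by rw [mul_one]; exact (X.G1_le hG).2) ha with h | h
  · exact Or.inl (hiff.1 h)
  · right
    obtain ⟨L0, ha0, hL0⟩ := X.n0_act
    have hLL : SG.wpL L = SG.wpL L0 := Equiv.ext fun r => Fin.ext ((h r).trans (hL0 r).symm)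
    obtain ⟨M, hM, hiffM⟩ := SG.exists_act (mul_mem hn (inv_mem X.n0_mono))
    have h1 := SG.act_mul hM (g' := X.n0) ha0
    rw [inv_mul_cancel_right] at h1
    have h2 := SG.act_unique ha h1
    rw [hLL] at h2
    exact hiffM.1 (mul_eq_right.1 h2.symm)

theorem not_diag_mul_n0 {d : GL chevG2.Idx K} (hd : d ∈ chevG2.diagonalSubgroup K) :
    d * X.n0 ∉ chevG2.diagonalSubgroup K := fun h => by
  have := mul_mem (inv_mem hd) h
  rw [inv_mul_cancel_left] at this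
  exact X.n0_not_borel (Subgroup.mem_sup_right this)

/-- Elements of `B¹` by parameters. -/
noncomputable def bp (X : Ree K) (p : (K × K × K) × Kˣ) : GL chevG2.Idx K :=
  X.uu p.1.1 p.1.2.1 p.1.2.2 * X.hh p.2

theorem bp_mem (p : (K × K × K) × Kˣ) : X.bp p ∈ X.G1 ∧ X.bp p ∈ chevG2.borelSubgroup K :=
  ⟨mul_mem (X.uu_mem_G1 _ _ _) (X.hh_mem _),
    mul_mem (SG.B_le_of (X.uu_mem_U _ _ _)) (Subgroup.mem_sup_right (X.hh_diag _))⟩

theorem bp_inj {p q : (K × K × K) × Kˣ} (h : X.bp p = X.bp q) : p = q := by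
  obtain ⟨⟨t, u, v⟩, s⟩ := p
  obtain ⟨⟨t', u', v'⟩, s'⟩ := q
  simp only [bp] at h
  have h1 : (X.uu t' u' v')⁻¹ * X.uu t u v ∈ chevG2.posUnipotent K ⊓ chevG2.diagonalSubgroup K := by
    refine Subgroup.mem_inf.2 ⟨mul_mem (inv_mem (X.uu_mem_U _ _ _)) (X.uu_mem_U _ _ _), ?_⟩
    have : (X.uu t' u' v')⁻¹ * X.uu t u v = X.hh s' * (X.hh s)⁻¹ := by
      rw [eq_mul_inv_iff_mul_eq, mul_assoc, h, inv_mul_cancel_left]
    rw [this]
    exact mul_mem (X.hh_diag _) (inv_mem (X.hh_diag _))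
  rw [SG.U_inf_H, Subgroup.mem_bot, inv_mul_eq_one] at h1
  obtain ⟨rfl, rfl, rfl⟩ := X.uu_inj h1.symm
  exact Prod.ext rfl (X.hh_injective (mul_left_cancel h))

theorem card_G1 : Nat.card ↥X.G1 = Fintype.card K ^ 3 * (Fintype.card K - 1) * (Fintype.card K ^ 3 + 1) := by
  let f : ((K × K × K) × Kˣ) ⊕ (((K × K × K) × Kˣ) × (K × K × K)) → ↥X.G1 :=
    Sum.elim (fun p => ⟨X.bp p, (X.bp_mem p).1⟩) fun p => ⟨X.bp p.1 * X.n0 * X.uu p.2.1 p.2.2.1 p.2.2.2,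
      mul_mem (mul_mem (X.bp_mem p.1).1 X.n0_mem) (X.uu_mem_G1 _ _ _)⟩
  have hne : ∀ (p q : (K × K × K) × Kˣ) (r : K × K × K), X.bp p ≠ X.bp q * X.n0 * X.uu r.1 r.2.1 r.2.2 := fun p q r h => by
    refine X.n0_not_borel ?_
    have e : X.n0 = (X.bp q)⁻¹ * X.bp p * (X.uu r.1 r.2.1 r.2.2)⁻¹ := by rw [h]; group
    rw [e]
    exact mul_mem (mul_mem (inv_mem (X.bp_mem q).2) (X.bp_mem p).2) (inv_mem (SG.B_le_of (X.uu_mem_U _ _ _)))
  have hf : Function.Bijective f := by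
    refine ⟨fun a b h => ?_, fun g => ?_⟩
    · have h' := congrArg Subtype.val h
      rcases a with p | ⟨p, r⟩ <;> rcases b with q | ⟨q, r'⟩ <;> simp only [f, Sum.elim_inl, Sum.elim_inr] at h'
      · rw [X.bp_inj h']
      · exact absurd h' (hne _ _ _)
      · exact absurd h'.symm (hne _ _ _)
      · obtain ⟨h1, h2⟩ := X.unique (X.bp_mem p).2 (X.bp_mem q).2 (X.uu_mem_U _ _ _) (X.uu_mem_U _ _ _) h'
        obtain ⟨e1, e2, e3⟩ := X.uu_inj h2
        rw [X.bp_inj h1, show r = r' from Prod.ext e1 (Prod.ext e2 e3)]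
    · obtain ⟨g, hg⟩ := g
      rcases X.Gs_cases (X.G1_le hg) with ⟨t, u, v, s, h⟩ | ⟨t, u, v, s, t', u', v', h⟩
      · exact ⟨Sum.inl ((t, u, v), s), Subtype.ext h.symm⟩
      · exact ⟨Sum.inr (((t, u, v), s), (t', u', v')), Subtype.ext h.symm⟩
  rw [← Nat.card_eq_of_bijective f hf]
  simp only [Nat.card_sum, Nat.card_prod, Nat.card_units, Nat.card_eq_fintype_card, Fintype.card_prod]
  ring

/-! ### The action of the torus -/

/-- The weight at the first coordinate. -/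
def wa (X : Ree K) (s : Kˣ) : Kˣ := s ^ 2 / s ^ (3 * X.e)

/-- The weight at the second coordinate. -/
def wb (X : Ree K) (s : Kˣ) : Kˣ := s ^ (3 * X.e) / s

theorem hh_conj_uu (s : Kˣ) (t u v : K) :
    X.hh s * X.uu t u v * (X.hh s)⁻¹ = X.uu (X.wa s * t) (X.wb s * u) (s * v) := by
  have := charP_three X.hK
  have hlt : ∀ r < 12, r < chevG2.nroots := fun r h => h
  let k : ℕ → K := fun r => ((∏ i, (![s ^ X.e, s] : Fin 2 → Kˣ) i ^ chevG2.cartan (i : ℕ) r : Kˣ) : K)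
  have hx : ∀ r < 12, ∀ a : K, MulAut.conj (X.hh s) (SG.ok.xG r a) = SG.ok.xG r (k r * a) := fun r h a => by
    rw [MulAut.conj_apply, X.hh_apply]
    exact SG.tG_conj_xG (hlt r h) _ a
  have e : X.hh s * X.uu t u v * (X.hh s)⁻¹ = w6 (k 7 * t ^ X.e) (k 6 * t) (k 8 * (t ^ (X.e + 1) + u ^ X.e))
      (k 9 * (t ^ (2 * X.e + 1) + v ^ X.e)) (k 10 * u) (k 11 * v) := by
    rw [← MulAut.conj_apply, uu, w6, map_mul, map_mul, map_mul, map_mul, map_mul, hx 7 (by omega),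
      hx 6 (by omega), hx 8 (by omega), hx 9 (by omega), hx 10 (by omega), hx 11 (by omega), w6]
  have hmem : X.hh s * X.uu t u v * (X.hh s)⁻¹ ∈ chevG2.posUnipotent K ⊓ X.G1 :=
    Subgroup.mem_inf.2 ⟨(Subgroup.mem_normalizer_iff.1 (SG.diag_normalises_U (X.hh_diag s)) _).1 (X.uu_mem_U _ _ _),
      mul_mem (mul_mem (X.hh_mem s) (X.uu_mem_G1 _ _ _)) (inv_mem (X.hh_mem s))⟩
  obtain ⟨t', u', v', h'⟩ := X.mem_U1_iff.1 hmem
  obtain ⟨-, h2, -, -, h5, h6⟩ := w6_inj (e.symm.trans h')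
  have hc : chevG2.cartan 0 6 = -3 ∧ chevG2.cartan 1 6 = 2 ∧ chevG2.cartan 0 10 = 3 ∧ chevG2.cartan 1 10 = -1 ∧
      chevG2.cartan 0 11 = 0 ∧ chevG2.cartan 1 11 = 1 := by decide +kernel
  obtain ⟨c1, c2, c3, c4, c5, c6⟩ := hc
  have ka : k 6 = (X.wa s : K) := by
    refine congrArg Units.val ?_
    rw [Fin.prod_univ_two]
    simp only [c1, c2, wa, Fin.val_zero, Fin.val_one, Matrix.cons_val_zero, Matrix.cons_val_one, div_eq_mul_inv,
      zpow_neg, zpow_ofNat, ← pow_mul, mul_comm X.e 3]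
    rw [mul_comm]
  have kb : k 10 = (X.wb s : K) := by
    refine congrArg Units.val ?_
    rw [Fin.prod_univ_two]
    simp only [c3, c4, wb, Fin.val_zero, Fin.val_one, Matrix.cons_val_zero, Matrix.cons_val_one, div_eq_mul_inv,
      zpow_neg, zpow_ofNat, ← pow_mul, mul_comm X.e 3, pow_one]
  have kv : k 11 = (s : K) := by
    refine congrArg Units.val ?_
    rw [Fin.prod_univ_two]
    simp [c5, c6]
  rw [h', ← h2, ← h5, ← h6, ka, kb, kv]

theorem pow_q_units (s : Kˣ) : s ^ (3 * X.e * X.e) = s := Units.ext (by simpa using X.pow_q (s : K))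

theorem wa_eq_one {s : Kˣ} (h : X.wa s = 1) : s = 1 := by
  have h1 : s ^ 2 = s ^ (3 * X.e) := div_eq_one.1 h
  have h2 : (s ^ (3 * X.e)) ^ (3 * X.e) = s ^ 3 := by
    rw [← pow_mul, show 3 * X.e * (3 * X.e) = 3 * X.e * X.e * 3 by ring, pow_mul, X.pow_q_units]
  rw [← h1, ← pow_mul, mul_comm, pow_mul, ← h1, ← pow_mul] at h2
  calc s = (s ^ 3)⁻¹ * s ^ (2 * 2) := by group
    _ = 1 := by rw [h2, inv_mul_cancel]

theorem wb_eq_one {s : Kˣ} (h : X.wb s = 1) : s ^ 2 = 1 := by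
  have h1 : s ^ (3 * X.e) = s := div_eq_one.1 h
  have h2 : (s ^ (3 * X.e)) ^ (3 * X.e) = s ^ 3 := by
    rw [← pow_mul, show 3 * X.e * (3 * X.e) = 3 * X.e * X.e * 3 by ring, pow_mul, X.pow_q_units]
  rw [h1, h1] at h2
  calc s ^ 2 = s⁻¹ * s ^ 3 := by group
    _ = 1 := by rw [← h2, inv_mul_cancel]

theorem commute_uu {s : Kˣ} {t u v : K} (h : Commute (X.hh s) (X.uu t u v)) :
    (s = 1 ∨ t = 0 ∧ v = 0) ∧ (s ^ 2 = 1 ∨ u = 0) := by
  have e := X.hh_conj_uu s t u v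
  rw [h.eq, mul_inv_cancel_right] at e
  obtain ⟨h1, h2, h3⟩ := X.uu_inj e
  refine ⟨?_, ?_⟩
  · by_cases hs : s = 1
    · exact Or.inl hs
    · refine Or.inr ⟨?_, ?_⟩
      · by_contra ht
        exact hs (X.wa_eq_one (Units.ext ((mul_eq_right₀ ht).1 h1.symm)))
      · by_contra hv
        exact hs (Units.ext ((mul_eq_right₀ hv).1 h3.symm))
  · by_cases hu : u = 0
    · exact Or.inr hu
    · exact Or.inl (X.wb_eq_one (Units.ext ((mul_eq_right₀ hu).1 h2.symm)))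

theorem centralizer_U1 {s : Kˣ} (hs : s ^ 2 ≠ 1) {g : GL chevG2.Idx K}
    (hg : g ∈ chevG2.posUnipotent K ⊓ X.G1) (hc : Commute (X.hh s) g) : g = 1 := by
  obtain ⟨t, u, v, rfl⟩ := X.mem_U1_iff.1 hg
  obtain ⟨h1, h2⟩ := X.commute_uu hc
  have hs1 : s ≠ 1 := fun e => hs (by rw [e, one_pow])
  obtain ⟨rfl, rfl⟩ := h1.resolve_left hs1
  rw [h2.resolve_left hs, X.uu_zero_eq_one]

theorem exists_sq_ne_one (hm : 1 ≤ X.m) : ∃ s : Kˣ, s ^ 2 ≠ 1 := by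
  obtain ⟨g, hg⟩ := IsCyclic.exists_generator (α := Kˣ)
  refine ⟨g, fun h => ?_⟩
  have h1 : orderOf g = Nat.card Kˣ := orderOf_eq_card_of_forall_mem_zpowers hg
  have h2 : orderOf g ≤ 2 := orderOf_le_of_pow_eq_one (by norm_num) h
  rw [h1, Nat.card_units, Nat.card_eq_fintype_card, X.hK] at h2
  have : 3 ^ 3 ≤ 3 ^ (2 * X.m + 1) := Nat.pow_le_pow_right (by norm_num) (by omega)
  omega

/-- The derived group inside the general linear group. -/
noncomputable def DD (X : Ree K) : Subgroup (GL chevG2.Idx K) := (commutator ↥X.G1).map X.G1.subtype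

theorem comm_mem_DD {a b : GL chevG2.Idx K} (ha : a ∈ X.G1) (hb : b ∈ X.G1) : a * b * a⁻¹ * b⁻¹ ∈ X.DD :=
  Subgroup.mem_map.2 ⟨⁅(⟨a, ha⟩ : ↥X.G1), (⟨b, hb⟩ : ↥X.G1)⁆, by
    rw [commutator_def]
    exact Subgroup.commutator_mem_commutator (Subgroup.mem_top _) (Subgroup.mem_top _), by
    simp only [commutatorElement_def, map_mul, map_inv, Subgroup.coe_subtype]⟩

theorem uu_mem_DD {s : Kˣ} (hs : s ^ 2 ≠ 1) (t u v : K) : X.uu t u v ∈ X.DD := by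
  have hex : ∀ p : K × K × K, ∃ p' : K × K × K, X.hh s * X.uu p.1 p.2.1 p.2.2 * (X.hh s)⁻¹ *
      (X.uu p.1 p.2.1 p.2.2)⁻¹ = X.uu p'.1 p'.2.1 p'.2.2 := fun p => by
    have hm : X.hh s * X.uu p.1 p.2.1 p.2.2 * (X.hh s)⁻¹ * (X.uu p.1 p.2.1 p.2.2)⁻¹ ∈
        chevG2.posUnipotent K ⊓ X.G1 := by
      rw [X.hh_conj_uu]
      exact mul_mem (X.mem_U1_iff.2 ⟨_, _, _, rfl⟩) (inv_mem (X.mem_U1_iff.2 ⟨_, _, _, rfl⟩))
    obtain ⟨a, b, c, h⟩ := X.mem_U1_iff.1 hm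
    exact ⟨(a, b, c), h⟩
  choose F hF using hex
  have hinj : Function.Injective F := fun p q h => by
    have h' := hF p
    rw [h, ← hF q] at h'
    generalize hg : X.uu p.1 p.2.1 p.2.2 = g at h'
    generalize hg' : X.uu q.1 q.2.1 q.2.2 = g' at h'
    have hc : Commute (X.hh s) (g'⁻¹ * g) := by
      rw [commute_iff_eq, ← mul_inv_eq_iff_eq_mul]
      calc X.hh s * (g'⁻¹ * g) * (X.hh s)⁻¹
          = (X.hh s * g' * (X.hh s)⁻¹)⁻¹ * (X.hh s * g * (X.hh s)⁻¹ * g⁻¹) * g := by group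
        _ = _ := by rw [h']; group
    have h1 : g'⁻¹ * g ∈ chevG2.posUnipotent K ⊓ X.G1 := by
      rw [← hg, ← hg']
      exact mul_mem (inv_mem (X.mem_U1_iff.2 ⟨_, _, _, rfl⟩)) (X.mem_U1_iff.2 ⟨_, _, _, rfl⟩)
    have h2 := inv_mul_eq_one.1 (X.centralizer_U1 hs h1 hc)
    rw [← hg, ← hg'] at h2
    obtain ⟨e1, e2, e3⟩ := X.uu_inj h2
    exact Prod.ext e1.symm (Prod.ext e2.symm e3.symm)
  obtain ⟨p, hp⟩ := Finite.injective_iff_surjective.1 hinj (t, u, v)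
  have := hF p
  rw [hp] at this
  rw [← this]
  exact X.comm_mem_DD (X.hh_mem s) (X.uu_mem_G1 _ _ _)

theorem tau_DD {g : GL chevG2.Idx K} (hg : g ∈ X.DD) : tau K g ∈ X.DD := by
  have hm : ∀ a : ↥X.G1, tau K (a : GL chevG2.Idx K) ∈ X.G1 := fun a => by
    exact (SetLike.ext_iff.1 X.G1_eq _).2 (X.tau_Gs (X.G1_le a.2))
  let τ1 : ↥X.G1 →* ↥X.G1 := ((tau K).comp X.G1.subtype).codRestrict X.G1 hm
  have h2 : (commutator ↥X.G1).map τ1 ≤ commutator ↥X.G1 := by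
    rw [commutator_def, Subgroup.map_commutator]
    exact Subgroup.commutator_mono le_top le_top
  obtain ⟨c, hc, rfl⟩ := Subgroup.mem_map.1 hg
  exact Subgroup.mem_map.2 ⟨τ1 c, h2 (Subgroup.mem_map.2 ⟨c, hc, rfl⟩), rfl⟩

theorem perfect (hm : 1 ≤ X.m) : commutator ↥X.G1 = ⊤ := by
  obtain ⟨s, hs⟩ := X.exists_sq_ne_one hm
  have hle : X.G1 ≤ X.DD := by
    refine (Subgroup.closure_le _).2 fun g hg => ?_
    obtain ⟨t, u, v, rfl | rfl⟩ := (X.G1_gens g).1 hg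
    · exact X.uu_mem_DD hs t u v
    · exact X.tau_DD (X.uu_mem_DD hs t u v)
  rw [eq_top_iff]
  rintro ⟨g, hg⟩ -
  obtain ⟨c, hc, e⟩ := Subgroup.mem_map.1 (hle hg)
  rwa [show (⟨g, hg⟩ : ↥X.G1) = c from Subtype.ext e.symm]

end Ree

end Cfsg.Lib.Chev.Ree
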