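import Cfsg.Agent.Chev.Ree.Tits

/-! The multiplication in `U¹` and its elements of order three. -/

set_option autoImplicit false
set_option linter.dupNamespace false

open Cfsg.Lie

namespace Cfsg.Lib.Chev.Ree

namespace Ree

variable {K : Type*} [Field K] [Fintype K]

/-- A product of the four root elements of height at least two. -/
noncomputable def hi (c d f g : K) : GL chevG2.Idx K :=
  SG.ok.xG 8 c * SG.ok.xG 9 d * SG.ok.xG 10 f * SG.ok.xG 11 g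

theorem hi_mul [CharP K 3] (c d f g c' d' f' g' : K) : hi c d f g * hi c' d' f' g' = hi (c + c') (d + d') (f + f') (g + g') :=
  high_mul c d f g c' d' f' g'

theorem w6_eq_hi (a b c d f g : K) : w6 a b c d f g = SG.ok.xG 7 a * SG.ok.xG 6 b * hi c d f g := rfl

theorem terms_cross : chevG2.commTerms 7 8 = [(9, -2, 1, 1), (10, -3, 2, 1), (11, 3, 1, 2)] ∧
    chevG2.commTerms 7 9 = [(10, 3, 1, 1)] ∧ chevG2.commTerms 7 10 = [] ∧ chevG2.commTerms 7 11 = [] ∧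
    chevG2.commTerms 6 8 = [] ∧ chevG2.commTerms 6 9 = [] ∧ chevG2.commTerms 6 10 = [(11, 1, 1, 1)] ∧
    chevG2.commTerms 6 11 = [] ∧
    (∀ r ∈ [6, 7], ∀ s ∈ [8, 9, 10, 11], r < chevG2.nroots ∧ s < chevG2.nroots ∧ s ≠ r ∧ s ≠ chevG2.neg r) := by
  decide +kernel

theorem cross [CharP K 3] (a u : K) :
    SG.ok.xG 8 u * SG.ok.xG 7 a = SG.ok.xG 7 a * (SG.ok.xG 8 u * SG.ok.xG 9 (-(a * u))) ∧
    Commute (SG.ok.xG 9 u) (SG.ok.xG 7 a) ∧ Commute (SG.ok.xG 10 u) (SG.ok.xG 7 a) ∧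
    Commute (SG.ok.xG 11 u) (SG.ok.xG 7 a) ∧ Commute (SG.ok.xG 8 u) (SG.ok.xG 6 a) ∧
    Commute (SG.ok.xG 9 u) (SG.ok.xG 6 a) ∧
    SG.ok.xG 10 u * SG.ok.xG 6 a = SG.ok.xG 6 a * (SG.ok.xG 10 u * SG.ok.xG 11 (-(a * u))) ∧
    Commute (SG.ok.xG 11 u) (SG.ok.xG 6 a) := by
  obtain ⟨e78, e79, e710, e711, e68, e69, e610, e611, hb⟩ := terms_cross
  have h3 : (3 : K) = 0 := by exact_mod_cast CharP.cast_eq_zero K 3
  have rel : ∀ r ∈ [6, 7], ∀ s ∈ [8, 9, 10, 11], SG.ok.xG s u * SG.ok.xG r a =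
      SG.ok.xG r a * SG.ok.xG s u * SG.ok.wG (chevG2.commWord K r s a u) := fun r hr s hs => by
    obtain ⟨h1, h2, h4, h5⟩ := hb r hr s hs
    exact SG.ok.commRel SG.chain SG.base h1 h2 h4 h5 a u
  have cm : ∀ r s, r ∈ [6, 7] → s ∈ [8, 9, 10, 11] → chevG2.commTerms r s = [] →
      Commute (SG.ok.xG s u) (SG.ok.xG r a) := fun r s hr hs h => by
    obtain ⟨h1, h2, h4, h5⟩ := hb r hr s hs
    exact (comm_of_terms h1 h2 h4 h5 h a u).symm
  refine ⟨?_, ?_, cm 7 10 (by simp) (by simp) e710, cm 7 11 (by simp) (by simp) e711,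
    cm 6 8 (by simp) (by simp) e68, cm 6 9 (by simp) (by simp) e69, ?_, cm 6 11 (by simp) (by simp) e611⟩
  · have h := rel 7 (by simp) 8 (by simp)
    rw [ChevalleyDatum.commWord, e78] at h
    simp only [List.map_cons, List.map_nil, Ok.wG, List.prod_cons, List.prod_nil, mul_one, Int.cast_neg,
      Int.cast_ofNat, h3, neg_zero, zero_mul, SG.ok.xG_zero, pow_one] at h
    rw [h, mul_assoc]
    congr 3
    linear_combination (a * u) * h3
  · have h := rel 7 (by simp) 9 (by simp)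
    rw [ChevalleyDatum.commWord, e79] at h
    simp only [List.map_cons, List.map_nil, Ok.wG, List.prod_cons, List.prod_nil, mul_one, Int.cast_neg,
      Int.cast_ofNat, h3, zero_mul, SG.ok.xG_zero] at h
    exact h
  · have h := rel 6 (by simp) 10 (by simp)
    rw [ChevalleyDatum.commWord, e610] at h
    simp only [List.map_cons, List.map_nil, Ok.wG, List.prod_cons, List.prod_nil, mul_one, Int.cast_one,
      one_mul, pow_one, neg_mul] at h
    rw [h, mul_assoc]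

theorem hi_x7 [CharP K 3] (a c d f g : K) : hi c d f g * SG.ok.xG 7 a = SG.ok.xG 7 a * hi c (d - a * c) f g := by
  obtain ⟨e8, -⟩ := cross a c
  have c9 := (cross a d).2.1
  have c10 := (cross a f).2.2.1
  have c11 := (cross a g).2.2.2.1
  rw [hi, hi]
  calc _ = SG.ok.xG 8 c * SG.ok.xG 9 d * (SG.ok.xG 10 f * SG.ok.xG 7 a) * SG.ok.xG 11 g := by
        simp only [mul_assoc]; rw [c11.eq]
    _ = SG.ok.xG 8 c * (SG.ok.xG 9 d * SG.ok.xG 7 a) * SG.ok.xG 10 f * SG.ok.xG 11 g := by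
        rw [c10.eq]; simp only [mul_assoc]
    _ = SG.ok.xG 8 c * SG.ok.xG 7 a * SG.ok.xG 9 d * SG.ok.xG 10 f * SG.ok.xG 11 g := by
        rw [c9.eq]; simp only [mul_assoc]
    _ = _ := by
        rw [e8, show d - a * c = -(a * c) + d by ring, ← SG.ok.xG_mul 9]; simp only [mul_assoc]

theorem hi_x6 [CharP K 3] (a c d f g : K) : hi c d f g * SG.ok.xG 6 a = SG.ok.xG 6 a * hi c d f (g - a * f) := by
  obtain ⟨-, -, -, -, c8, -⟩ := cross a c
  obtain ⟨-, -, -, -, -, c9, -⟩ := cross a d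
  obtain ⟨-, -, -, -, -, -, e10, -⟩ := cross a f
  obtain ⟨-, -, -, -, -, -, -, c11⟩ := cross a g
  rw [hi, hi]
  calc _ = SG.ok.xG 8 c * SG.ok.xG 9 d * (SG.ok.xG 10 f * SG.ok.xG 6 a) * SG.ok.xG 11 g := by
        simp only [mul_assoc]; rw [c11.eq]
    _ = SG.ok.xG 8 c * (SG.ok.xG 9 d * SG.ok.xG 6 a) * SG.ok.xG 10 f * (SG.ok.xG 11 (-(a * f)) * SG.ok.xG 11 g) := by
        rw [e10]; simp only [mul_assoc]
    _ = SG.ok.xG 8 c * SG.ok.xG 6 a * SG.ok.xG 9 d * SG.ok.xG 10 f * SG.ok.xG 11 (g - a * f) := by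
        rw [c9.eq, SG.ok.xG_mul, neg_add_eq_sub]; simp only [mul_assoc]
    _ = _ := by rw [c8.eq]; simp only [mul_assoc]

theorem w6_mul [CharP K 3] (a b c d f g a' b' c' d' f' g' : K) :
    w6 a b c d f g * w6 a' b' c' d' f' g' = w6 (a + a') (b + b') (a' * b + c + c') (a' ^ 2 * b + (d - a' * c) + d')
      (-(a' ^ 3 * b) + f + f') (-(a' ^ 3 * b ^ 2) + g - b' * (-(a' ^ 3 * b) + f) + g') := by
  rw [w6_eq_hi, w6_eq_hi, w6_eq_hi]
  calc _ = SG.ok.xG 7 a * SG.ok.xG 6 b * (hi c d f g * SG.ok.xG 7 a') * SG.ok.xG 6 b' * hi c' d' f' g' := by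
        simp only [mul_assoc]
    _ = SG.ok.xG 7 a * (SG.ok.xG 6 b * SG.ok.xG 7 a') * hi c (d - a' * c) f g * SG.ok.xG 6 b' * hi c' d' f' g' := by
        rw [hi_x7]; simp only [mul_assoc]
    _ = SG.ok.xG 7 a * SG.ok.xG 7 a' * SG.ok.xG 6 b *
        (hi (a' * b) (a' ^ 2 * b) (-(a' ^ 3 * b)) (-(a' ^ 3 * b ^ 2)) * hi c (d - a' * c) f g * SG.ok.xG 6 b') *
        hi c' d' f' g' := by rw [swap67, ← hi]; simp only [mul_assoc]
    _ = SG.ok.xG 7 a * SG.ok.xG 7 a' * (SG.ok.xG 6 b * SG.ok.xG 6 b') *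
        (hi (a' * b + c) (a' ^ 2 * b + (d - a' * c)) (-(a' ^ 3 * b) + f)
          (-(a' ^ 3 * b ^ 2) + g - b' * (-(a' ^ 3 * b) + f)) * hi c' d' f' g') := by
        rw [hi_mul, hi_x6]; simp only [mul_assoc]
    _ = _ := by rw [SG.ok.xG_mul, SG.ok.xG_mul, hi_mul]

theorem w6_cube [CharP K 3] (a b c d f g : K) : ∃ f' g',
    w6 a b c d f g * w6 a b c d f g * w6 a b c d f g = w6 0 0 0 (-(a ^ 2 * b)) f' g' ∧
      (a = 0 → b = 0 → f' = 0 ∧ g' = 0) := by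
  have h3 : (3 : K) = 0 := by exact_mod_cast CharP.cast_eq_zero K 3
  rw [w6_mul, w6_mul]
  refine ⟨-(a ^ 3 * (b + b)) + (-(a ^ 3 * b) + f + f) + f,
    -(a ^ 3 * (b + b) ^ 2) + (-(a ^ 3 * b ^ 2) + g - b * (-(a ^ 3 * b) + f) + g) -
      b * (-(a ^ 3 * (b + b)) + (-(a ^ 3 * b) + f + f)) + g, ?_, fun ha hb => ?_⟩
  · congr 1
    · linear_combination a * h3
    · linear_combination b * h3
    · linear_combination (a * b + c) * h3
    · linear_combination (a ^ 2 * b + d - a * c) * h3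
  · subst ha hb
    exact ⟨by linear_combination f * h3, by linear_combination g * h3⟩

variable (X : Ree K)
include X

theorem uu_cube (t u v : K) : X.uu t u v ^ 3 = 1 ↔ t = 0 := by
  have := charP_three X.hK
  obtain ⟨f', g', h, h0⟩ := w6_cube (t ^ X.e) t (t ^ (X.e + 1) + u ^ X.e) (t ^ (2 * X.e + 1) + v ^ X.e) u v
  have h1 : (w6 0 0 0 0 0 0 : GL chevG2.Idx K) = 1 := by simp [w6, SG.ok.xG_zero]
  rw [pow_succ, pow_two, uu, h]
  refine ⟨fun e => ?_, fun ht => ?_⟩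
  · obtain ⟨-, -, -, h4, -, -⟩ := w6_inj (e.trans h1.symm)
    rw [neg_eq_zero, ← pow_mul, ← pow_succ] at h4
    exact eq_zero_of_pow_eq_zero h4
  · subst ht
    obtain ⟨rfl, rfl⟩ := h0 (zero_pow X.e_pos.ne') rfl
    rw [← h1]; simp

theorem card_order_three : Nat.card {u : ↥(chevG2.posUnipotent K ⊓ X.G1) // orderOf u = 3} = Fintype.card K ^ 2 - 1 := by
  have : Fact (Nat.Prime 3) := ⟨Nat.prime_three⟩
  have hne : ∀ p : {p : K × K // p ≠ 0}, X.uu 0 p.1.1 p.1.2 ≠ 1 := fun p h => by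
    obtain ⟨-, h1, h2⟩ := X.uu_inj (h.trans X.uu_zero_eq_one.symm)
    exact p.2 (Prod.ext h1 h2)
  let f : {p : K × K // p ≠ 0} → {u : ↥(chevG2.posUnipotent K ⊓ X.G1) // orderOf u = 3} := fun p =>
    ⟨⟨X.uu 0 p.1.1 p.1.2, X.mem_U1_iff.2 ⟨_, _, _, rfl⟩⟩, orderOf_eq_prime
      (Subtype.ext (by rw [SubmonoidClass.coe_pow]; exact (X.uu_cube 0 _ _).2 rfl))
      (fun h => hne p (congrArg Subtype.val h))⟩
  have hf : Function.Bijective f := by
    refine ⟨fun p q h => ?_, fun u => ?_⟩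
    · obtain ⟨-, h1, h2⟩ := X.uu_inj (congrArg (fun u : {u : ↥(chevG2.posUnipotent K ⊓ X.G1) // orderOf u = 3} =>
        (u.1 : GL chevG2.Idx K)) h)
      exact Subtype.ext (Prod.ext h1 h2)
    · obtain ⟨t, a, b, hu⟩ := X.mem_U1_iff.1 u.1.2
      have h3 : X.uu t a b ^ 3 = 1 := by
        rw [← hu, ← SubmonoidClass.coe_pow, show (u.1) ^ 3 = 1 by simpa [u.2] using pow_orderOf_eq_one u.1]
        rfl
      obtain rfl := (X.uu_cube t a b).1 h3
      refine ⟨⟨(a, b), fun h => ?_⟩, Subtype.ext (Subtype.ext hu.symm)⟩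
      obtain ⟨rfl, rfl⟩ := Prod.ext_iff.1 h
      have h1 : u.1 = 1 := Subtype.ext (hu.trans X.uu_zero_eq_one)
      have := u.2
      rw [h1, orderOf_one] at this
      omega
  classical
  rw [← Nat.card_eq_of_bijective f hf, Nat.card_eq_fintype_card, Fintype.card_subtype_compl,
    Fintype.card_subtype_eq, Fintype.card_prod, sq]

end Ree

end Cfsg.Lib.Chev.Ree
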