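import Cfsg.Agent.Chev.Ree.Main
import Cfsg.Prelude.Def_LieExceptional

/-! The rank one Tits system of a small Ree group and the action on its points. -/

set_option autoImplicit false
set_option linter.dupNamespace false

open Cfsg.Lie
open scoped Pointwise

namespace Cfsg.Lib.Chev.Ree

namespace Ree

variable {K : Type*} [Field K] [Fintype K] (X : Ree K)
include X

/-- `B¹` as a subgroup of the group. -/
noncomputable def Bs (X : Ree K) : Subgroup ↥X.G1 := (chevG2.borelSubgroup K ⊓ X.G1).subgroupOf X.G1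

/-- `N¹` as a subgroup of the group. -/
noncomputable def Ns (X : Ree K) : Subgroup ↥X.G1 := (chevG2.monomialSubgroup K ⊓ X.G1).subgroupOf X.G1

theorem mem_Bs {g : ↥X.G1} : g ∈ X.Bs ↔ (g : GL chevG2.Idx K) ∈ chevG2.borelSubgroup K := by
  rw [Bs, Subgroup.mem_subgroupOf, Subgroup.mem_inf]; exact ⟨fun h => h.1, fun h => ⟨h, g.2⟩⟩

theorem mem_Ns {g : ↥X.G1} : g ∈ X.Ns ↔ (g : GL chevG2.Idx K) ∈ chevG2.monomialSubgroup K := by
  rw [Ns, Subgroup.mem_subgroupOf, Subgroup.mem_inf]; exact ⟨fun h => h.1, fun h => ⟨h, g.2⟩⟩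

/-- The involution representative in the group. -/
noncomputable def sn (X : Ree K) : ↥X.G1 := ⟨X.n0, X.n0_mem⟩

theorem coe_sn : (X.sn : GL chevG2.Idx K) = X.n0 := rfl

theorem diag_le_B {g : GL chevG2.Idx K} (h : g ∈ chevG2.diagonalSubgroup K) : g ∈ chevG2.borelSubgroup K :=
  Subgroup.mem_sup_right h

theorem cases (g : ↥X.G1) : g ∈ X.Bs ∨ ∃ b ∈ X.Bs, ∃ b' ∈ X.Bs, g = b * X.sn * b' := by
  obtain ⟨g, hg⟩ := g
  rcases X.Gs_cases (X.G1_le hg) with ⟨t, u, v, s, h⟩ | ⟨t, u, v, s, t', u', v', h⟩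
  · subst h
    exact Or.inl (X.mem_Bs.2 (X.bp_mem ((t, u, v), s)).2)
  · refine Or.inr ⟨⟨_, (X.bp_mem ((t, u, v), s)).1⟩, X.mem_Bs.2 (X.bp_mem ((t, u, v), s)).2,
      ⟨_, X.uu_mem_G1 t' u' v'⟩, X.mem_Bs.2 (SG.B_le_of (X.uu_mem_U _ _ _)), Subtype.ext ?_⟩
    rw [Subgroup.coe_mul, Subgroup.coe_mul, coe_sn]
    exact h

theorem Ns_cases {n : ↥X.G1} (hn : n ∈ X.Ns) : n ∈ X.Bs ∨ n * X.sn⁻¹ ∈ X.Bs := by
  rcases X.mono_cases (X.mem_Ns.1 hn) n.2 with h | h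
  · exact Or.inl (X.mem_Bs.2 (X.diag_le_B h))
  · refine Or.inr (X.mem_Bs.2 ?_)
    rw [Subgroup.coe_mul, Subgroup.coe_inv, coe_sn]
    exact X.diag_le_B h

theorem exists_BN' : ∃ P : Cfsg.BNPair ↥X.G1, P.B = X.Bs ∧ P.N = X.Ns ∧ P.S.Subsingleton := by
  have hsN : X.sn ∈ X.Ns := X.mem_Ns.2 X.n0_mono
  have hsq : X.sn * X.sn ∈ X.Bs := X.mem_Bs.2 (X.diag_le_B X.n0_sq)
  have hsB : X.sn ∉ X.Bs := fun h => X.n0_not_borel (X.mem_Bs.1 h)
  refine ⟨{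
    B := X.Bs, N := X.Ns, S := {X.sn}, sup_eq_top := ?_, conj_mem := ?_, subset := ?_, sq_mem := ?_,
    inj := ?_, closure_sup := ?_, mul_mem_union := ?_, conj_ne := ?_ }, rfl, rfl, Set.subsingleton_singleton⟩
  · refine eq_top_iff.2 fun g _ => ?_
    rcases X.cases g with h | ⟨b, hb, b', hb', rfl⟩
    · exact Subgroup.mem_sup_left h
    · exact mul_mem (mul_mem (Subgroup.mem_sup_left hb) (Subgroup.mem_sup_right hsN)) (Subgroup.mem_sup_left hb')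
  · intro n hn t ht
    obtain ⟨htB, htN⟩ := Subgroup.mem_inf.1 ht
    have htd : (t : GL chevG2.Idx K) ∈ chevG2.diagonalSubgroup K := by
      rw [← SG.B_inf_N]; exact Subgroup.mem_inf.2 ⟨X.mem_Bs.1 htB, X.mem_Ns.1 htN⟩
    refine X.mem_Bs.2 (X.diag_le_B ?_)
    rw [Subgroup.coe_mul, Subgroup.coe_mul, Subgroup.coe_inv]
    rcases X.mono_cases (X.mem_Ns.1 hn) n.2 with h | h
    · exact mul_mem (mul_mem h htd) (inv_mem h)
    · have e : (n : GL chevG2.Idx K) * t * (n : GL chevG2.Idx K)⁻¹ =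
          (n * X.n0⁻¹) * (X.n0 * t * X.n0⁻¹) * (n * X.n0⁻¹ : GL chevG2.Idx K)⁻¹ := by group
      rw [e]
      exact mul_mem (mul_mem h (X.n0_conj htd)) (inv_mem h)
  · rintro s rfl; exact hsN
  · rintro s rfl; exact hsq
  · rintro s rfl s' rfl _; rfl
  · refine le_antisymm (sup_le ((Subgroup.closure_le _).2 (by rintro s rfl; exact hsN)) inf_le_right) fun n hn => ?_
    rcases X.Ns_cases hn with h | h
    · exact Subgroup.mem_sup_right (Subgroup.mem_inf.2 ⟨h, hn⟩)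
    · rw [show n = n * X.sn⁻¹ * X.sn by group]
      exact mul_mem (Subgroup.mem_sup_right (Subgroup.mem_inf.2 ⟨h, mul_mem hn (inv_mem hsN)⟩))
        (Subgroup.mem_sup_left (Subgroup.subset_closure rfl))
  · rintro s rfl n hn b hb
    have key : ∀ g : ↥X.G1, g ∈ X.Bs ∨ g ∈ DoubleCoset.doubleCoset X.sn (X.Bs : Set ↥X.G1) X.Bs := fun g => by
      rcases X.cases g with h | ⟨b, hb, b', hb', rfl⟩
      · exact Or.inl h
      · exact Or.inr (DoubleCoset.mem_doubleCoset.2 ⟨b, hb, b', hb', rfl⟩)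
    rcases X.Ns_cases hn with h | h
    · rcases key (X.sn * b * n) with hg | hg
      · exact Or.inr (DoubleCoset.mem_doubleCoset.2 ⟨_, hg, n⁻¹, inv_mem h, by group⟩)
      · obtain ⟨c, hc, c', hc', e⟩ := DoubleCoset.mem_doubleCoset.1 hg
        exact Or.inl (DoubleCoset.mem_doubleCoset.2 ⟨c, hc, n⁻¹ * c', mul_mem (inv_mem h) hc', by rw [e]; group⟩)
    · rcases key (X.sn * b * n) with hg | hg
      · refine Or.inl (DoubleCoset.mem_doubleCoset.2 ⟨X.sn * b * n, hg, (X.sn * n)⁻¹, ?_, by group⟩)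
        refine inv_mem ?_
        rw [show X.sn * n = X.sn * (n * X.sn⁻¹) * X.sn⁻¹ * (X.sn * X.sn) by group]
        refine mul_mem (X.mem_Bs.2 ?_) hsq
        have hd : ((n * X.sn⁻¹ : ↥X.G1) : GL chevG2.Idx K) ∈ chevG2.diagonalSubgroup K := by
          rw [← SG.B_inf_N]
          exact Subgroup.mem_inf.2 ⟨X.mem_Bs.1 h, X.mem_Ns.1 (mul_mem hn (inv_mem hsN))⟩
        rw [Subgroup.coe_mul, Subgroup.coe_mul, Subgroup.coe_inv, coe_sn]
        exact X.diag_le_B (X.n0_conj hd)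
      · obtain ⟨c, hc, c', hc', e⟩ := DoubleCoset.mem_doubleCoset.1 hg
        refine Or.inr (DoubleCoset.mem_doubleCoset.2 ⟨c * (n * X.sn⁻¹)⁻¹, mul_mem hc (inv_mem h), c', hc', ?_⟩)
        rw [e]; group
  · rintro s rfl h
    let x : ↥X.G1 := ⟨X.uu 0 1 0, X.uu_mem_G1 _ _ _⟩
    have hx : x ∈ X.Bs := X.mem_Bs.2 (SG.B_le_of (X.uu_mem_U _ _ _))
    have h1 : X.sn * x * X.sn ∈ (X.Bs : Set ↥X.G1) := h ▸ Set.mem_image_of_mem _ hx
    have h2 : X.n0 * X.uu 0 1 0 * X.n0⁻¹ ∈ chevG2.borelSubgroup K := by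
      rw [show X.n0 * X.uu 0 1 0 * X.n0⁻¹ = X.n0 * X.uu 0 1 0 * X.n0 * (X.n0 * X.n0)⁻¹ by group]
      exact mul_mem (X.mem_Bs.1 h1) (inv_mem (X.diag_le_B X.n0_sq))
    have h3 := X.inter_conj h2 (by
      rw [show X.n0⁻¹ * (X.n0 * X.uu 0 1 0 * X.n0⁻¹) * X.n0 = X.uu 0 1 0 by group]
      exact SG.B_le_of (X.uu_mem_U _ _ _))
    have h4 := X.n0_conj' h3
    rw [show X.n0⁻¹ * (X.n0 * X.uu 0 1 0 * X.n0⁻¹) * X.n0 = X.uu 0 1 0 by group] at h4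
    have h5 : X.uu 0 1 0 ∈ chevG2.posUnipotent K ⊓ chevG2.diagonalSubgroup K :=
      Subgroup.mem_inf.2 ⟨X.uu_mem_U _ _ _, h4⟩
    rw [SG.U_inf_H, Subgroup.mem_bot, ← X.uu_zero_eq_one] at h5
    exact one_ne_zero (X.uu_inj h5).2.1

theorem exists_BN : ∃ P : Cfsg.BNPair ↥X.G1, P.B = X.Bs ∧ P.N = X.Ns := by
  obtain ⟨P, h1, h2, -⟩ := X.exists_BN'
  exact ⟨P, h1, h2⟩

theorem core_eq_bot : X.Bs.normalCore = ⊥ := by
  have := charP_three X.hK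
  refine eq_bot_iff.2 fun g hg => ?_
  have hd : ∀ h ∈ X.Bs.normalCore, (h : GL chevG2.Idx K) ∈ chevG2.diagonalSubgroup K := fun h hh => by
    refine X.inter_conj (X.mem_Bs.1 (Subgroup.normalCore_le _ hh)) ?_
    have := X.mem_Bs.1 (Subgroup.normalCore_le _ ((X.Bs.normalCore_normal).conj_mem h hh X.sn⁻¹))
    simpa [coe_sn] using this
  let x : ↥X.G1 := ⟨X.uu 0 0 1, X.uu_mem_G1 _ _ _⟩
  have hgd := hd g hg
  have h1 : (g : GL chevG2.Idx K) ∈ chevG2.diagonalSubgroup K ⊓ X.G1 := Subgroup.mem_inf.2 ⟨hgd, g.2⟩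
  rw [X.H1_eq] at h1
  obtain ⟨s, hs⟩ := h1
  have h2 := hd _ ((X.Bs.normalCore_normal).conj_mem g hg x)
  simp only [Subgroup.coe_mul, Subgroup.coe_inv] at h2
  have h3 : X.uu 0 0 1 * g * (X.uu 0 0 1)⁻¹ * (g : GL chevG2.Idx K)⁻¹ ∈
      chevG2.posUnipotent K ⊓ chevG2.diagonalSubgroup K := by
    refine Subgroup.mem_inf.2 ⟨?_, mul_mem h2 (inv_mem hgd)⟩
    rw [show X.uu 0 0 1 * (g : GL chevG2.Idx K) * (X.uu 0 0 1)⁻¹ * (g : GL chevG2.Idx K)⁻¹ =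
      X.uu 0 0 1 * ((g : GL chevG2.Idx K) * (X.uu 0 0 1)⁻¹ * (g : GL chevG2.Idx K)⁻¹) by group]
    exact mul_mem (X.uu_mem_U _ _ _)
      ((Subgroup.mem_normalizer_iff.1 (SG.diag_normalises_U hgd) _).1 (inv_mem (X.uu_mem_U _ _ _)))
  rw [SG.U_inf_H, Subgroup.mem_bot, mul_inv_eq_one, mul_inv_eq_iff_eq_mul] at h3
  have h4 := X.commute_uu (s := s) (t := 0) (u := 0) (v := 1) (by rw [hs]; exact h3.symm)
  have : s = 1 := h4.1.resolve_right fun h => one_ne_zero h.2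
  rw [Subgroup.mem_bot]
  exact Subtype.ext (by rw [← hs, this, map_one]; rfl)

theorem weyl : ∃ φ : ↥(chevG2.monomialSubgroup K ⊓ X.G1) →* Multiplicative (ZMod 2), Function.Surjective φ ∧
    φ.ker = (chevG2.diagonalSubgroup K ⊓ X.G1).subgroupOf (chevG2.monomialSubgroup K ⊓ X.G1) := by
  classical
  let f : ↥(chevG2.monomialSubgroup K ⊓ X.G1) → Multiplicative (ZMod 2) := fun n =>
    if (n : GL chevG2.Idx K) ∈ chevG2.diagonalSubgroup K then 1 else Multiplicative.ofAdd 1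
  have hP : ∀ a b : ↥(chevG2.monomialSubgroup K ⊓ X.G1), (a : GL chevG2.Idx K) ∉ chevG2.diagonalSubgroup K →
      (b : GL chevG2.Idx K) ∉ chevG2.diagonalSubgroup K → (a * b : GL chevG2.Idx K) ∈ chevG2.diagonalSubgroup K := by
    intro a b ha hb
    have h1 := (X.mono_cases (Subgroup.mem_inf.1 a.2).1 (Subgroup.mem_inf.1 a.2).2).resolve_left ha
    have h2 := (X.mono_cases (Subgroup.mem_inf.1 b.2).1 (Subgroup.mem_inf.1 b.2).2).resolve_left hb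
    rw [show (a * b : GL chevG2.Idx K) = (a * X.n0⁻¹) * (X.n0 * (b * X.n0⁻¹) * X.n0⁻¹) * (X.n0 * X.n0) by group]
    exact mul_mem (mul_mem h1 (X.n0_conj h2)) X.n0_sq
  have hmul : ∀ a b, f (a * b) = f a * f b := fun a b => by
    simp only [f, Subgroup.coe_mul]
    by_cases ha : (a : GL chevG2.Idx K) ∈ chevG2.diagonalSubgroup K
    · simp [ha, Subgroup.mul_mem_cancel_left _ ha]
    · by_cases hb : (b : GL chevG2.Idx K) ∈ chevG2.diagonalSubgroup K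
      · simp [ha, hb, Subgroup.mul_mem_cancel_right _ hb]
      · rw [if_pos (hP a b ha hb), if_neg ha, if_neg hb]
        decide
  refine ⟨MonoidHom.mk' f hmul, fun z => ?_, ?_⟩
  · have hz : z = 1 ∨ z = Multiplicative.ofAdd 1 := by revert z; decide
    rcases hz with rfl | rfl
    · exact ⟨1, map_one _⟩
    · refine ⟨⟨X.n0, X.n0_mono, X.n0_mem⟩, ?_⟩
      show f _ = _
      exact if_neg fun h => X.n0_not_borel (X.diag_le_B h)
  · ext n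
    rw [MonoidHom.mem_ker, Subgroup.mem_subgroupOf, Subgroup.mem_inf, MonoidHom.mk'_apply]
    by_cases h : (n : GL chevG2.Idx K) ∈ chevG2.diagonalSubgroup K
    · simp [f, h, (Subgroup.mem_inf.1 n.2).2]
    · simp only [f, if_neg h, h, false_and, iff_false]
      decide

/-! ### Three points -/

theorem mem_stab {g k : ↥X.G1} :
    g ∈ MulAction.stabilizer ↥X.G1 (k : ↥X.G1 ⧸ X.Bs) ↔ k⁻¹ * g * k ∈ X.Bs := by
  rw [MulAction.mem_stabilizer_iff, MulAction.Quotient.smul_coe, eq_comm, QuotientGroup.eq, smul_eq_mul, mul_assoc]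

theorem fixes {s : Kˣ} {t u v : K} (h : Commute (X.hh s) (X.uu t u v)) :
    let g : ↥X.G1 := ⟨X.hh s, X.hh_mem s⟩
    g ∈ MulAction.stabilizer ↥X.G1 ((1 : ↥X.G1) : ↥X.G1 ⧸ X.Bs) ∧
    g ∈ MulAction.stabilizer ↥X.G1 (X.sn : ↥X.G1 ⧸ X.Bs) ∧
    g ∈ MulAction.stabilizer ↥X.G1 ((⟨X.uu t u v, X.uu_mem_G1 _ _ _⟩ * X.sn : ↥X.G1) : ↥X.G1 ⧸ X.Bs) := by
  intro g
  refine ⟨X.mem_stab.2 (X.mem_Bs.2 ?_), X.mem_stab.2 (X.mem_Bs.2 ?_), X.mem_stab.2 (X.mem_Bs.2 ?_)⟩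
  · simpa [g] using X.diag_le_B (X.hh_diag s)
  · simpa [g, coe_sn] using X.diag_le_B (X.n0_conj' (X.hh_diag s))
  · simp only [Subgroup.coe_mul, Subgroup.coe_inv, coe_sn, g]
    rw [show (X.uu t u v * X.n0)⁻¹ * X.hh s * (X.uu t u v * X.n0) = X.n0⁻¹ * ((X.uu t u v)⁻¹ * (X.hh s * X.uu t u v)) * X.n0
      by group, h.eq, inv_mul_cancel_left]
    exact X.diag_le_B (X.n0_conj' (X.hh_diag s))

theorem stab_eq {g : ↥X.G1} {t u v : K}
    (h1 : g ∈ MulAction.stabilizer ↥X.G1 ((1 : ↥X.G1) : ↥X.G1 ⧸ X.Bs))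
    (h2 : g ∈ MulAction.stabilizer ↥X.G1 (X.sn : ↥X.G1 ⧸ X.Bs))
    (h3 : g ∈ MulAction.stabilizer ↥X.G1 ((⟨X.uu t u v, X.uu_mem_G1 _ _ _⟩ * X.sn : ↥X.G1) : ↥X.G1 ⧸ X.Bs)) :
    ∃ s : Kˣ, (g : GL chevG2.Idx K) = X.hh s ∧ Commute (X.hh s) (X.uu t u v) := by
  have a1 := X.mem_Bs.1 (X.mem_stab.1 h1)
  have a2 := X.mem_Bs.1 (X.mem_stab.1 h2)
  have a3 := X.mem_Bs.1 (X.mem_stab.1 h3)
  simp only [Subgroup.coe_mul, Subgroup.coe_inv, Subgroup.coe_one, inv_one, one_mul, mul_one, coe_sn] at a1 a2 a3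
  have hd := X.inter_conj a1 a2
  have hh : (g : GL chevG2.Idx K) ∈ chevG2.diagonalSubgroup K ⊓ X.G1 := Subgroup.mem_inf.2 ⟨hd, g.2⟩
  rw [X.H1_eq] at hh
  obtain ⟨s, hs⟩ := hh
  refine ⟨s, hs.symm, ?_⟩
  have hU := X.uu_mem_U t u v
  rw [show (X.uu t u v * X.n0)⁻¹ * g * (X.uu t u v * X.n0) = X.n0⁻¹ * ((X.uu t u v)⁻¹ * g * X.uu t u v) * X.n0
    by group] at a3
  have hb : (X.uu t u v)⁻¹ * g * X.uu t u v ∈ chevG2.borelSubgroup K :=
    mul_mem (mul_mem (inv_mem (SG.B_le_of hU)) a1) (SG.B_le_of hU)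
  have hd2 := X.inter_conj hb a3
  have h4 : (X.uu t u v)⁻¹ * (g * X.uu t u v * (g : GL chevG2.Idx K)⁻¹) ∈
      chevG2.posUnipotent K ⊓ chevG2.diagonalSubgroup K := by
    refine Subgroup.mem_inf.2 ⟨mul_mem (inv_mem hU)
      ((Subgroup.mem_normalizer_iff.1 (SG.diag_normalises_U hd) _).1 hU), ?_⟩
    rw [show (X.uu t u v)⁻¹ * (g * X.uu t u v * (g : GL chevG2.Idx K)⁻¹) =
      (X.uu t u v)⁻¹ * g * X.uu t u v * (g : GL chevG2.Idx K)⁻¹ by group]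
    exact mul_mem hd2 (inv_mem hd)
  rw [SG.U_inf_H, Subgroup.mem_bot, inv_mul_eq_one, eq_mul_inv_iff_mul_eq] at h4
  rw [hs]
  exact h4.symm

theorem card_sq_one : Nat.card {s : Kˣ // s ^ 2 = 1} ≤ 2 := by
  have h : ∀ s : {s : Kˣ // s ^ 2 = 1}, s.1 = 1 ∨ s.1 = -1 := fun s => by
    have := congrArg Units.val s.2
    rw [Units.val_pow_eq_pow_val, Units.val_one, sq_eq_one_iff] at this
    rcases this with e | e
    · exact Or.inl (Units.ext e)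
    · exact Or.inr (Units.ext (by simpa using e))
  classical
  refine (Nat.card_le_card_of_injective (fun s => decide (s.1 = 1)) fun a b hab => Subtype.ext ?_).trans
    (by simp)
  simp only [decide_eq_decide] at hab
  rcases h a with ha | ha <;> rcases h b with hb | hb
  · rw [ha, hb]
  · rw [ha, hab.1 ha]
  · rw [hb, hab.2 hb]
  · rw [ha, hb]

theorem card_three_le (x y z : ↥X.G1 ⧸ X.Bs) (hxy : x ≠ y) (hxz : x ≠ z) (hyz : y ≠ z) :
    Nat.card ↥(MulAction.stabilizer ↥X.G1 x ⊓ MulAction.stabilizer ↥X.G1 y ⊓ MulAction.stabilizer ↥X.G1 z) ≤ 2 := by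
  obtain ⟨a, rfl⟩ := QuotientGroup.mk_surjective x
  obtain ⟨b, rfl⟩ := QuotientGroup.mk_surjective y
  obtain ⟨c, rfl⟩ := QuotientGroup.mk_surjective z
  have hab : a⁻¹ * b ∉ X.Bs := fun h => hxy (QuotientGroup.eq.2 h)
  obtain ⟨b1, hb1, b2, hb2, eb⟩ := (X.cases (a⁻¹ * b)).resolve_left hab
  -- move to the standard pair
  set k := a * b1 with hk
  have hka : (k : ↥X.G1 ⧸ X.Bs) = (a : ↥X.G1 ⧸ X.Bs) := QuotientGroup.eq.2 (by
    rw [hk, mul_inv_rev, inv_mul_cancel_right]; exact inv_mem hb1)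
  have hkb : ((k * X.sn : ↥X.G1) : ↥X.G1 ⧸ X.Bs) = (b : ↥X.G1 ⧸ X.Bs) := QuotientGroup.eq.2 (by
    rw [show b = a * (a⁻¹ * b) by group, eb, hk, show (a * b1 * X.sn)⁻¹ * (a * (b1 * X.sn * b2)) = b2 by group]
    exact hb2)
  have hc : k⁻¹ * c ∉ X.Bs := fun h => hxz (hka.symm.trans (QuotientGroup.eq.2 h))
  obtain ⟨c1, hc1, c2, hc2, ec⟩ := (X.cases (k⁻¹ * c)).resolve_left hc
  obtain ⟨t, u, v, s, es⟩ := X.borel_fixed (X.mem_Bs.1 hc1) (X.G1_le c1.2).2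
  set w : ↥X.G1 := ⟨X.uu t u v, X.uu_mem_G1 _ _ _⟩ with hw
  have hkc : ((k * (w * X.sn) : ↥X.G1) : ↥X.G1 ⧸ X.Bs) = (c : ↥X.G1 ⧸ X.Bs) := QuotientGroup.eq.2 (by
    rw [show c = k * (k⁻¹ * c) by group, ec,
      show (k * (w * X.sn))⁻¹ * (k * (c1 * X.sn * c2)) = X.sn⁻¹ * (w⁻¹ * c1) * X.sn * c2 by group]
    refine mul_mem (X.mem_Bs.2 ?_) hc2
    simp only [Subgroup.coe_mul, Subgroup.coe_inv, coe_sn, hw, es, inv_mul_cancel_left]
    exact X.diag_le_B (X.n0_conj' (X.hh_diag s)))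
  have hne : ¬ (t = 0 ∧ u = 0 ∧ v = 0) := by
    rintro ⟨rfl, rfl, rfl⟩
    have : w = 1 := Subtype.ext X.uu_zero_eq_one
    exact hyz (by rw [← hkb, ← hkc, this, one_mul])
  have hstab : ∀ g ∈ MulAction.stabilizer ↥X.G1 (a : ↥X.G1 ⧸ X.Bs) ⊓
      MulAction.stabilizer ↥X.G1 (b : ↥X.G1 ⧸ X.Bs) ⊓ MulAction.stabilizer ↥X.G1 (c : ↥X.G1 ⧸ X.Bs),
      ∃ s : Kˣ, ((k⁻¹ * g * k : ↥X.G1) : GL chevG2.Idx K) = X.hh s ∧ s ^ 2 = 1 := fun g hg => by
    obtain ⟨⟨g1, g2⟩, g3⟩ := hg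
    rw [← hka] at g1
    rw [← hkb] at g2
    rw [← hkc] at g3
    have e : ∀ d : ↥X.G1, g ∈ MulAction.stabilizer ↥X.G1 ((k * d : ↥X.G1) : ↥X.G1 ⧸ X.Bs) →
        k⁻¹ * g * k ∈ MulAction.stabilizer ↥X.G1 (d : ↥X.G1 ⧸ X.Bs) := fun d hd => by
      have := X.mem_stab.1 hd
      exact X.mem_stab.2 (by rwa [show d⁻¹ * (k⁻¹ * g * k) * d = (k * d)⁻¹ * g * (k * d) by group])
    obtain ⟨s, hs, hcom⟩ := X.stab_eq (e 1 (by rw [mul_one]; exact g1)) (e _ g2) (e _ g3)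
    obtain ⟨h1, h2⟩ := X.commute_uu hcom
    refine ⟨s, hs, ?_⟩
    rcases h2 with h2 | h2
    · exact h2
    · rcases h1 with h1 | h1
      · rw [h1, one_pow]
      · exact absurd ⟨h1.1, h2, h1.2⟩ hne
  choose F hF hF2 using hstab
  refine (Nat.card_le_card_of_injective (fun g => (⟨F g.1 g.2, hF2 g.1 g.2⟩ : {s : Kˣ // s ^ 2 = 1})) ?_).trans
    X.card_sq_one
  intro g g' h
  have h' : F g.1 g.2 = F g'.1 g'.2 := congrArg Subtype.val h
  have := (hF g.1 g.2).trans ((congrArg X.hh h').trans (hF g'.1 g'.2).symm)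
  exact Subtype.ext (mul_left_cancel (mul_right_cancel (Subtype.ext this)))

theorem exists_three : ∃ x y z : ↥X.G1 ⧸ X.Bs, x ≠ y ∧ x ≠ z ∧ y ≠ z ∧
    Nat.card ↥(MulAction.stabilizer ↥X.G1 x ⊓ MulAction.stabilizer ↥X.G1 y ⊓ MulAction.stabilizer ↥X.G1 z) = 2 := by
  have := charP_three X.hK
  let w : ↥X.G1 := ⟨X.uu 0 1 0, X.uu_mem_G1 _ _ _⟩
  have hwB : w ∈ X.Bs := X.mem_Bs.2 (SG.B_le_of (X.uu_mem_U _ _ _))
  have hsB : X.sn ∉ X.Bs := fun h => X.n0_not_borel (X.mem_Bs.1 h)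
  have h12 : ((1 : ↥X.G1) : ↥X.G1 ⧸ X.Bs) ≠ (X.sn : ↥X.G1 ⧸ X.Bs) := fun h => hsB (by
    have := QuotientGroup.eq.1 h; simpa using this)
  have h13 : ((1 : ↥X.G1) : ↥X.G1 ⧸ X.Bs) ≠ ((w * X.sn : ↥X.G1) : ↥X.G1 ⧸ X.Bs) := fun h => hsB (by
    have := QuotientGroup.eq.1 h
    rw [inv_one, one_mul] at this
    simpa using mul_mem (inv_mem hwB) this)
  have h23 : (X.sn : ↥X.G1 ⧸ X.Bs) ≠ ((w * X.sn : ↥X.G1) : ↥X.G1 ⧸ X.Bs) := fun h => by
    have h1 := X.mem_Bs.1 (QuotientGroup.eq.1 h)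
    simp only [Subgroup.coe_mul, Subgroup.coe_inv, coe_sn, w, ← mul_assoc] at h1
    have hU := X.uu_mem_U 0 1 0
    have h2 : X.uu 0 1 0 ∈ chevG2.posUnipotent K ⊓ chevG2.diagonalSubgroup K :=
      Subgroup.mem_inf.2 ⟨hU, X.inter_conj (SG.B_le_of hU) h1⟩
    rw [SG.U_inf_H, Subgroup.mem_bot, ← X.uu_zero_eq_one] at h2
    exact one_ne_zero (X.uu_inj h2).2.1
  refine ⟨_, _, _, h12, h13, h23, le_antisymm (X.card_three_le _ _ _ h12 h13 h23) ?_⟩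
  have hne : (-1 : Kˣ) ≠ 1 := fun h => by
    have h' : (-1 : K) = 1 := by simpa using congrArg Units.val h
    have h3 : ((3 : ℕ) : K) = 0 := CharP.cast_eq_zero K 3
    have : (1 : K) = 0 := by push_cast at h3; linear_combination h3 + h'
    exact one_ne_zero this
  have hc : Commute (X.hh (-1)) (X.uu 0 1 0) := by
    have hb : X.wb (-1) = 1 := by
      rw [wb, (show Odd (3 * X.e) from Odd.mul (by decide) (Odd.pow (by decide))).neg_one_pow, div_self']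
    have := X.hh_conj_uu (-1) 0 1 0
    rw [hb, mul_zero, mul_zero, Units.val_one, mul_one, mul_inv_eq_iff_eq_mul] at this
    exact this
  obtain ⟨f1, f2, f3⟩ := X.fixes hc
  have : Finite ↥X.G1 := Nat.finite_of_card_ne_zero (by
    rw [X.card_G1]
    have : 1 < Fintype.card K := Fintype.one_lt_card
    have : 0 < Fintype.card K - 1 := by omega
    positivity)
  rw [Nat.succ_le_iff]
  refine Finite.one_lt_card_iff_nontrivial.2 ⟨⟨⟨⟨X.hh (-1), X.hh_mem _⟩, ⟨f1, f2⟩, f3⟩, 1, fun h => ?_⟩⟩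
  have h' := congrArg (fun g => ((g : ↥X.G1) : GL chevG2.Idx K)) (congrArg Subtype.val h)
  exact hne (X.hh_injective (h'.trans X.hh.map_one.symm))

/-! ### Orders of elements -/

theorem card_odd : 2 * Nat.card {h : ↥(chevG2.diagonalSubgroup K ⊓ X.G1) // Odd (orderOf h)} = Fintype.card K - 1 := by
  have hq : ∃ Q, Odd Q ∧ Fintype.card K - 1 = 2 * Q := by
    obtain ⟨k, hk⟩ : Odd X.e := Odd.pow (by decide)
    refine ⟨6 * k * k + 6 * k + 1, ⟨3 * k * k + 3 * k, by ring⟩, ?_⟩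
    have : Fintype.card K = 3 * X.e * X.e := by rw [X.hK, e, pow_succ, two_mul, pow_add]; ring
    rw [this, hk]
    have : 3 * (2 * k + 1) * (2 * k + 1) = 2 * (6 * k * k + 6 * k + 1) + 1 := by ring
    omega
  obtain ⟨Q, hQ, hq⟩ := hq
  have hker : Nat.card (powMonoidHom Q : Kˣ →* Kˣ).ker = Q := by
    rw [IsCyclic.card_powMonoidHom_ker, Nat.card_units, Nat.card_eq_fintype_card, hq]
    exact Nat.gcd_eq_right (dvd_mul_left _ _)
  have hiff : ∀ s : Kˣ, Odd (orderOf s) ↔ s ∈ (powMonoidHom Q : Kˣ →* Kˣ).ker := fun s => by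
    rw [MonoidHom.mem_ker, powMonoidHom_apply, ← orderOf_dvd_iff_pow_eq_one]
    have hd : orderOf s ∣ 2 * Q := by
      rw [← hq, ← Nat.card_eq_fintype_card, ← Nat.card_units]; exact orderOf_dvd_natCard s
    exact ⟨fun h => (Nat.Coprime.dvd_of_dvd_mul_left (Nat.coprime_two_right.2 h) hd), fun h => hQ.of_dvd_nat h⟩
  rw [hq, ← hker]
  congr 1
  rw [show chevG2.diagonalSubgroup K ⊓ X.G1 = X.hh.range from X.H1_eq]
  symm
  refine Nat.card_congr ((MonoidHom.ofInjective X.hh_injective).toEquiv.subtypeEquiv fun s => ?_)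
  rw [← hiff]
  exact iff_of_eq (congrArg Odd (MulEquiv.orderOf_eq (MonoidHom.ofInjective X.hh_injective) s).symm)

theorem odd_centralizer {h : GL chevG2.Idx K} (hh : h ∈ chevG2.diagonalSubgroup K ⊓ X.G1) (h1 : h ≠ 1)
    (ho : Odd (orderOf h)) : chevG2.posUnipotent K ⊓ X.G1 ⊓ Subgroup.centralizer {h} = ⊥ := by
  rw [X.H1_eq] at hh
  obtain ⟨s, rfl⟩ := hh
  refine eq_bot_iff.2 fun g hg => ?_
  obtain ⟨hg1, hg2⟩ := Subgroup.mem_inf.1 hg
  rw [Subgroup.mem_bot]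
  refine X.centralizer_U1 (fun hs => h1 ?_) hg1 (Subgroup.mem_centralizer_singleton_iff.1 hg2).symm
  rw [orderOf_injective X.hh X.hh_injective] at ho
  have : orderOf s = 1 := by
    have hd := orderOf_dvd_of_pow_eq_one hs
    rcases (Nat.dvd_prime Nat.prime_two).1 hd with e | e
    · exact e
    · rw [e] at ho; exact absurd ho (by decide)
  rw [orderOf_eq_one_iff.1 this, map_one]

end Ree

end Cfsg.Lib.Chev.Ree
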