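import Cfsg.Agent.Chev.Ree.Law

/-! The small Ree groups of degree at least one are simple. -/

set_option autoImplicit false
set_option linter.dupNamespace false

open Cfsg.Lie

namespace Cfsg.Lib.Chev.Ree

namespace Ree

variable {K : Type*} [Field K] [Fintype K] (X : Ree K)
include X

theorem bp_mul (p r : (K × K × K) × Kˣ) : ∃ w, X.bp p * X.bp r = X.bp (w, p.2 * r.2) := by
  obtain ⟨t, u, v, h⟩ := X.mem_U1_iff.1 (mul_mem (X.mem_U1_iff.2 ⟨p.1.1, p.1.2.1, p.1.2.2, rfl⟩)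
    (X.mem_U1_iff.2 ⟨X.wa p.2 * r.1.1, X.wb p.2 * r.1.2.1, p.2 * r.1.2.2, rfl⟩))
  refine ⟨(t, u, v), ?_⟩
  simp only [bp]
  rw [← h, ← X.hh_conj_uu, map_mul]
  group

theorem solvable_B : Group.IsSolvable ↥X.Bs := by
  have := charP_three X.hK
  have : Fact (Nat.Prime 3) := ⟨Nat.prime_three⟩
  have hp : ∀ b : ↥X.Bs, ∃ p, ((b : ↥X.G1) : GL chevG2.Idx K) = X.bp p := fun b => by
    obtain ⟨t, u, v, s, h⟩ := X.borel_fixed (X.mem_Bs.1 b.2) (X.G1_le b.1.2).2
    exact ⟨((t, u, v), s), h⟩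
  choose P hP using hp
  let χ : ↥X.Bs →* Kˣ := MonoidHom.mk' (fun b => (P b).2) fun a b => by
    obtain ⟨w, hw⟩ := X.bp_mul (P a) (P b)
    have h := hP (a * b)
    rw [Subgroup.coe_mul, Subgroup.coe_mul, hP a, hP b, hw] at h
    exact (congrArg Prod.snd (X.bp_inj h)).symm
  have hker : ∀ b : ↥χ.ker, ((b : ↥X.Bs) : ↥X.G1).1 ∈ chevG2.posUnipotent K ⊓ X.G1 := fun b => by
    have h1 : (P b.1).2 = 1 := b.2
    rw [hP b.1, bp, h1, map_one, mul_one]
    exact X.mem_U1_iff.2 ⟨_, _, _, rfl⟩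
  let f : ↥χ.ker →* ↥(chevG2.posUnipotent K ⊓ X.G1) :=
    ((X.G1.subtype.comp X.Bs.subtype).comp χ.ker.subtype).codRestrict _ hker
  have hf : Function.Injective f := fun a b h =>
    Subtype.ext (Subtype.ext (Subtype.ext (show (f a : GL chevG2.Idx K) = f b from congrArg Subtype.val h)))
  have hU : IsPGroup 3 ↥(chevG2.posUnipotent K ⊓ X.G1) :=
    IsPGroup.of_card (n := (2 * X.m + 1) * 3) (by rw [X.card_U1, X.hK, ← pow_mul])
  have : Finite ↥(chevG2.posUnipotent K ⊓ X.G1) :=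
    Nat.finite_of_card_ne_zero (by rw [X.card_U1]; exact pow_ne_zero _ Fintype.card_ne_zero)
  have : Group.IsNilpotent ↥(chevG2.posUnipotent K ⊓ X.G1) := hU.isNilpotent
  have hk : Group.IsSolvable ↥χ.ker := Group.isSolvable_of_isSolvable_injective hf
  exact Group.isSolvable_of_ker_le_range χ.ker.subtype χ (by simp)

theorem simple (hm : 1 ≤ X.m) : IsSimpleGroup ↥X.G1 ∧ ¬ IsMulCommutative ↥X.G1 := by
  have hnt : Nontrivial ↥X.G1 := by
    refine ⟨⟨X.sn, 1, fun h => X.n0_not_borel ?_⟩⟩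
    have := congrArg Subtype.val h
    rw [coe_sn] at this
    rw [this]; exact one_mem _
  have hperf := X.perfect hm
  refine ⟨?_, fun hc => ?_⟩
  · obtain ⟨P, hB, -, hS⟩ := X.exists_BN'
    refine BN.simple_of_irreducible P (fun J hJ hne hrest => ?_) (hB ▸ X.solvable_B) hperf (hB ▸ X.core_eq_bot)
    obtain ⟨a, ha⟩ := hne
    obtain ⟨b, hb, hb'⟩ := hrest
    exact absurd (hS (hJ ha) hb ▸ ha) hb'
  · have h : commutator ↥X.G1 = ⊥ := by
      rw [commutator_def, Subgroup.commutator_eq_bot_iff_le_centralizer]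
      intro g _
      rw [Subgroup.mem_centralizer_iff]
      exact fun h _ => hc.is_comm.comm h g
    exact bot_ne_top (h.symm.trans hperf)

end Ree

end Cfsg.Lib.Chev.Ree
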