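import Cfsg.Agent.Chev.Ree.Setup

/-! Evaluation of words over the field of three elements. -/

set_option autoImplicit false
open Cfsg.Lie
namespace Cfsg.Lib.Chev.Ree
namespace Word
/-- The coordinates, as a list. -/
def idxL : List chevG2.Idx := (List.finRange 2).map Sum.inl ++ (List.finRange 12).map Sum.inr

theorem idxL_mem : ∀ a : chevG2.Idx, a ∈ idxL := by
  rintro (i | i)
  · exact List.mem_append_left _ (List.mem_map.2 ⟨i, List.mem_finRange _, rfl⟩)
  · exact List.mem_append_right _ (List.mem_map.2 ⟨i, List.mem_finRange _, rfl⟩)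

theorem idxL_get (a : chevG2.Idx) : idxL[enc chevG2.rank chevG2.nroots a]? = some a := by
  rcases a with ⟨i, hi⟩ | ⟨i, hi⟩
  · change i < 2 at hi
    interval_cases i <;> rfl
  · change i < 12 at hi
    interval_cases i <;> rfl

variable {F : Type*} [Field F] [DecidableEq F]

/-- A row vector times `x_r(t)`. -/
noncomputable def stepS (r : ℕ) (t : F) (v : List F) : List F :=
  idxL.map fun b => v.getD (enc chevG2.rank chevG2.nroots b) 0 + ((G2.cert.row r).map fun e =>
    if enc chevG2.rank chevG2.nroots b = e.c then (e.k : F) * t ^ e.j * v.getD e.r 0 else 0).sum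

/-- Continuation-passing evaluation of a list over the prime field. -/
noncomputable def forceL {β : Type} : List (ZMod 3) → (List (ZMod 3) → β) → β
  | [], k => k []
  | a :: l, k =>
    if a = 0 then forceL l fun l' => k (0 :: l')
    else if a = 1 then forceL l fun l' => k (1 :: l')
    else forceL l fun l' => k (2 :: l')

theorem forceL_eq {β : Type} : ∀ (l : List (ZMod 3)) (k : List (ZMod 3) → β), forceL l k = k l
  | [], k => rfl
  | a :: l, k => by
    have h : a = 0 ∨ a = 1 ∨ a = 2 := by revert a; decide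
    rcases h with rfl | rfl | rfl
    · rw [forceL, if_pos rfl, forceL_eq l]
    · rw [forceL, if_neg (by decide), if_pos rfl, forceL_eq l]
    · rw [forceL, if_neg (by decide), if_neg (by decide), forceL_eq l]

/-- A row vector times a word over the prime field. -/
noncomputable def runS : List (ℕ × ZMod 3) → List (ZMod 3) → List (ZMod 3)
  | [], v => v
  | p :: w, v => forceL (stepS p.1 p.2 v) fun v' => runS w v'

omit [DecidableEq F] in
theorem stepS_eq {r : ℕ} (hr : r < chevG2.nroots) (t : F) (g : chevG2.Idx → F) :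
    stepS r t (idxL.map g) = idxL.map (Matrix.vecMul g (chevG2.x F r t)) := by
  have hne : chevG2.negIdx.getD r 0 ≠ r := by
    have := SG.ok.neg_ne hr; rwa [SG.ok.neg_eq hr] at this
  have hg : ∀ a : chevG2.Idx, (idxL.map g).getD (enc chevG2.rank chevG2.nroots a) 0 = g a := fun a => by
    rw [List.getD_eq_getElem?_getD, List.getElem?_map, idxL_get]; rfl
  refine List.map_congr_left fun b _ => ?_
  have hB : ∀ e ∈ G2.cert.row r, e.i = 0 ∧ e.r < chevG2.rank + chevG2.nroots := fun e he => by
    refine ⟨SG.ok.row_i_zero hr e he, ?_⟩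
    have hm : G2.cert.row r ∈ G2.cert.tab := by
      rw [Cert.row, List.getD_eq_getElem _ _ (by rw [SG.ok.basics.2.2.2.1]; simpa using hr)]
      exact List.getElem_mem _
    have h2 := (SG.ok.basics.2.2.2.2.2.2 _ hm e he).1
    rwa [SG.ok.l_eq, SG.ok.n_eq] at h2
  rw [hg, x_eq_xR hr hne, xR, ← SG.ok.row_eq hr, Matrix.vecMul_add, Matrix.vecMul_one]
  show _ = g b + Matrix.vecMul g (ev chevG2.rank chevG2.nroots 0 t (G2.cert.row r)) b
  congr 1
  generalize G2.cert.row r = L at hB ⊢
  induction L with
  | nil => simp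
  | cons e L ih =>
    rw [List.map_cons, List.sum_cons, ih (fun e' he' => hB e' (List.mem_cons_of_mem _ he')), ev_cons,
      Matrix.vecMul_add, Pi.add_apply]
    congr 1
    obtain ⟨hi, hlt⟩ := hB e List.mem_cons_self
    obtain ⟨a, ha⟩ := exists_enc chevG2.rank chevG2.nroots hlt
    show _ = ∑ x, g x * (((e.k : F) * (0 ^ e.i * t ^ e.j)) • unit F chevG2.rank chevG2.nroots e.r e.c) x b
    rw [Finset.sum_eq_single a (fun x _ hx => by
      have : enc chevG2.rank chevG2.nroots x ≠ e.r := fun h => hx (enc_injective _ _ (h.trans ha.symm))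
      simp [unit, this]) (by simp), ← ha, hg]
    simp only [unit, Matrix.smul_apply, Matrix.of_apply, hi, pow_zero, one_mul, true_and, smul_eq_mul]
    split_ifs <;> ring

theorem runS_eq : ∀ (w : List (ℕ × ZMod 3)) (g : chevG2.Idx → ZMod 3), (∀ p ∈ w, p.1 < chevG2.nroots) →
    runS w (idxL.map g) = idxL.map (Matrix.vecMul g (chevG2.wordMat (ZMod 3) w))
  | [], g, _ => by simp [runS, ChevalleyDatum.wordMat]
  | p :: w, g, h => by
    rw [runS, forceL_eq, stepS_eq (h p List.mem_cons_self), runS_eq w _ (fun q hq => h q (List.mem_cons_of_mem _ hq))]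
    simp [ChevalleyDatum.wordMat, Matrix.vecMul_vecMul]

/-- The rows of the unit matrix. -/
def unitRow (n : ℕ) : List (ZMod 3) := idxL.map fun b => if enc chevG2.rank chevG2.nroots b = n then 1 else 0

theorem wordMat_eq {w w' : List (ℕ × ZMod 3)} (hw : ∀ p ∈ w, p.1 < chevG2.nroots)
    (hw' : ∀ p ∈ w', p.1 < chevG2.nroots) (h : ∀ n < 14, runS w (unitRow n) = runS w' (unitRow n)) :
    chevG2.wordMat (ZMod 3) w = chevG2.wordMat (ZMod 3) w' := by
  ext a b
  have e := h _ (enc_lt _ _ a)
  have he : unitRow (enc chevG2.rank chevG2.nroots a) = idxL.map (Pi.single a (1 : ZMod 3)) :=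
    List.map_congr_left fun x _ => by simp [Pi.single_apply, (enc_injective _ _).eq_iff]
  rw [he, runS_eq w _ hw, runS_eq w' _ hw'] at e
  have := List.map_inj_left.1 e b (idxL_mem b)
  simpa using this

theorem key : chevG2.wordMat (ZMod 3) [(7, -1), (4, 1), (7, -1), (7, -1), (4, 1), (7, -1),
      (6, -1), (5, 1), (6, -1), (6, -1), (5, 1), (6, -1)] =
      chevG2.wordMat (ZMod 3) ([(7, 1), (6, 1), (8, 1), (9, 1), (10, 0), (11, 0)] ++
        [(4, -1), (5, -1), (3, -1), (2, -1), (1, 0), (0, 0)] ++
        [(4, -1), (5, -1), (3, -1), (2, -1), (1, 0), (0, 0)] ++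
        [(7, 1), (6, 1), (8, 1), (9, 1), (10, 0), (11, 0)] ++
        [(4, 0), (5, 0), (3, -1), (2, 0), (1, -1), (0, 0)] ++
        [(7, 0), (6, 0), (8, 0), (9, 1), (10, 0), (11, 1)]) :=
  wordMat_eq (by decide +kernel) (by decide +kernel) (by decide +kernel)
end Word
end Cfsg.Lib.Chev.Ree
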