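import Cfsg.Agent.Chev.Ree.Setup
import Cfsg.Agent.Chev.Ree.Word
import Cfsg.Agent.Chev.BNP
import Cfsg.Agent.Chev.More

/-! The fixed group of the twist is `B¹ ∪ B¹ n₀ U¹` and equals `²G₂`. -/

set_option autoImplicit false
set_option linter.dupNamespace false

open Cfsg.Lie

namespace Cfsg.Lib.Chev.Ree

namespace Ree

variable {K : Type*} [Field K] [Fintype K] (X : Ree K)
include X

omit X in
theorem okAut_negG : (St.negG chevG2.rank chevG2.nroots).okAut G2.cert = true := by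
  have h := St.okSt_G2
  simp only [St.okSt, Bool.and_eq_true] at h
  exact h.1.1.1

/-- The automorphism `x_r(c) ↦ x_{-r}(-c)`. -/
noncomputable def tau (K : Type*) [Field K] : GL chevG2.Idx K →* GL chevG2.Idx K :=
  GTab.glHom SG.ok okAut_negG

omit [Fintype K] X in
theorem tau_inj : Function.Injective (tau K) := GTab.glHom_injective SG.ok okAut_negG

omit [Fintype K] X in
theorem tau_xG {r : ℕ} (hr : r < chevG2.nroots) (t : K) : tau K (SG.ok.xG r t) = SG.ok.xG (11 - r) (-t) := by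
  have e : ∀ r < chevG2.nroots, (St.negG chevG2.rank chevG2.nroots).rho chevG2.rank r = 11 - r ∧
      (St.negG chevG2.rank chevG2.nroots).eps chevG2.rank r = -1 := by decide +kernel
  rw [tau, GTab.glHom_xG SG.ok okAut_negG hr, (e r hr).1, (e r hr).2]
  simp

omit [Fintype K] X in
theorem tau_mem {g : GL chevG2.Idx K} (hg : g ∈ chevG2.group K) : tau K g ∈ chevG2.group K := by
  have : chevG2.group K ≤ (chevG2.group K).comap (tau K) := by
    refine (Subgroup.closure_le _).2 ?_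
    rintro x ⟨r, t, hx⟩
    have hx' : x = SG.ok.xG r.val t := SG.ok.eq_xG (by rw [hx]; simp [ChevalleyDatum.x, r.isLt])
    show tau K x ∈ chevG2.group K
    rw [hx', tau_xG r.isLt]
    exact SG.ok.xG_mem_group _ _
  exact this hg

theorem sg_tau {g : GL chevG2.Idx K} (hg : g ∈ chevG2.group K) : X.sg (tau K g) = tau K (X.sg g) := by
  let Z : Subgroup (GL chevG2.Idx K) :=
    { carrier := {g | g ∈ chevG2.group K ∧ X.sg (tau K g) = tau K (X.sg g)}
      one_mem' := ⟨one_mem _, by rw [map_one, X.sg_one, map_one]⟩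
      mul_mem' := fun {a b} ha hb => ⟨mul_mem ha.1 hb.1, by
        rw [map_mul, X.sg_mul (tau_mem ha.1) (tau_mem hb.1), X.sg_mul ha.1 hb.1, map_mul, ha.2, hb.2]⟩
      inv_mem' := fun {a} ha => ⟨inv_mem ha.1, by
        rw [map_inv, X.sg_inv (tau_mem ha.1), X.sg_inv ha.1, map_inv, ha.2]⟩ }
  have : chevG2.group K ≤ Z := by
    refine (Subgroup.closure_le _).2 ?_
    rintro x ⟨r, t, hx⟩
    have hx' : x = SG.ok.xG r.val t := SG.ok.eq_xG (by rw [hx]; simp [ChevalleyDatum.x, r.isLt])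
    refine ⟨hx' ▸ SG.ok.xG_mem_group _ _, ?_⟩
    obtain ⟨h1, -, -, -, -, -, h7, h8, -⟩ := tables r.val r.isLt
    have hr' : 11 - r.val < chevG2.nroots := by show 11 - r.val < 12; omega
    rw [hx', tau_xG r.isLt, X.sg_xG hr', X.sg_xG r.isLt, tau_xG h1, h7, h8, (X.odd_exp r.isLt).neg_pow]
  exact (this hg).2

theorem tau_Gs {g : GL chevG2.Idx K} (hg : g ∈ X.Gs) : tau K g ∈ X.Gs :=
  ⟨tau_mem hg.1, by rw [X.sg_tau hg.1, hg.2]⟩

omit [Fintype K] X in
theorem w6_mem_U (a b c d f g : K) : w6 a b c d f g ∈ chevG2.posUnipotent K := by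
  have h : ∀ r, 6 ≤ r → r < 12 → ∀ t : K, SG.ok.xG r t ∈ chevG2.posUnipotent K := fun r h1 h2 t =>
    SG.xG_mem_U h1 h2 t
  unfold w6
  exact mul_mem (mul_mem (h 7 (by omega) (by omega) a) (h 6 (by omega) (by omega) b))
    (mul_mem (mul_mem (mul_mem (h 8 (by omega) (by omega) c) (h 9 (by omega) (by omega) d))
      (h 10 (by omega) (by omega) f)) (h 11 (by omega) (by omega) g))

theorem uu_mem_U (t u v : K) : X.uu t u v ∈ chevG2.posUnipotent K := w6_mem_U _ _ _ _ _ _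

omit [Fintype K] X in
theorem U_le_group : chevG2.posUnipotent K ≤ chevG2.group K := fun _ hg => SG.borel_le_group (SG.B_le_of hg)

theorem uu_mem_Gs (t u v : K) : X.uu t u v ∈ X.Gs := by
  have := charP_three X.hK
  exact ⟨U_le_group (X.uu_mem_U t u v), (X.U_fixed (X.uu_mem_U t u v)).2 ⟨t, u, v, rfl⟩⟩

omit [Fintype K] X in
theorem val_w6 (a b c d f g : K) :
    (w6 a b c d f g : Matrix chevG2.Idx chevG2.Idx K) =
      chevG2.wordMat K [(7, a), (6, b), (8, c), (9, d), (10, f), (11, g)] := by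
  simp [w6, ChevalleyDatum.wordMat, mul_assoc]

omit [Fintype K] X in
theorem val_tau_w6 (a b c d f g : K) :
    (tau K (w6 a b c d f g) : Matrix chevG2.Idx chevG2.Idx K) =
      chevG2.wordMat K [(4, -a), (5, -b), (3, -c), (2, -d), (1, -f), (0, -g)] := by
  have h : ∀ r < 12, r < chevG2.nroots := fun r hr => hr
  rw [w6, map_mul, map_mul, map_mul, map_mul, map_mul, tau_xG (h 7 (by omega)), tau_xG (h 6 (by omega)),
    tau_xG (h 8 (by omega)), tau_xG (h 9 (by omega)), tau_xG (h 10 (by omega)), tau_xG (h 11 (by omega))]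
  simp [ChevalleyDatum.wordMat, mul_assoc]

theorem G1_gens (g : GL chevG2.Idx K) :
    (∃ w ∈ g2Words K X.e, (g : Matrix chevG2.Idx chevG2.Idx K) = chevG2.wordMat K w) ↔
      ∃ t u v : K, g = X.uu t u v ∨ g = tau K (X.uu t u v) := by
  have hU : ∀ t u v : K, reeWordU X.e t u v =
      [(7, t ^ X.e), (6, t), (8, t ^ (X.e + 1) + u ^ X.e), (9, t ^ (2 * X.e + 1) + v ^ X.e), (10, u), (11, v)] :=
    fun _ _ _ => rfl
  have hneg : [chevG2.negIdx.getD 7 0, chevG2.negIdx.getD 6 0, chevG2.negIdx.getD 8 0, chevG2.negIdx.getD 9 0,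
      chevG2.negIdx.getD 10 0, chevG2.negIdx.getD 11 0] = [4, 5, 3, 2, 1, 0] := by decide +kernel
  simp only [List.cons.injEq, and_true] at hneg
  obtain ⟨n7, n6, n8, n9, n10, n11⟩ := hneg
  have hV : ∀ t u v : K, reeWordV X.e t u v =
      [(4, -(t ^ X.e)), (5, -t), (3, -(t ^ (X.e + 1) + u ^ X.e)), (2, -(t ^ (2 * X.e + 1) + v ^ X.e)), (1, -u), (0, -v)] := by
    intro t u v
    simp only [reeWordV, hU, ChevalleyDatum.negWord, List.map_cons, List.map_nil, n7, n6, n8, n9, n10, n11]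
  constructor
  · rintro ⟨w, ⟨t, u, v, rfl | rfl⟩, hg⟩
    · exact ⟨t, u, v, Or.inl (Units.ext (by rw [hg, hU, uu, val_w6]))⟩
    · exact ⟨t, u, v, Or.inr (Units.ext (by rw [hg, hV, uu, val_tau_w6]))⟩
  · rintro ⟨t, u, v, rfl | rfl⟩
    · exact ⟨_, ⟨t, u, v, Or.inl rfl⟩, by rw [hU, uu, val_w6]⟩
    · exact ⟨_, ⟨t, u, v, Or.inr rfl⟩, by rw [hV, uu, val_tau_w6]⟩

/-- The small Ree group. -/
noncomputable def G1 (X : Ree K) : Subgroup (GL chevG2.Idx K) := twistedG2 K X.e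

theorem uu_mem_G1 (t u v : K) : X.uu t u v ∈ X.G1 :=
  Subgroup.subset_closure ((X.G1_gens _).2 ⟨t, u, v, Or.inl rfl⟩)

theorem vv_mem_G1 (t u v : K) : tau K (X.uu t u v) ∈ X.G1 :=
  Subgroup.subset_closure ((X.G1_gens _).2 ⟨t, u, v, Or.inr rfl⟩)

theorem G1_le : X.G1 ≤ X.Gs := by
  refine (Subgroup.closure_le _).2 fun g hg => ?_
  obtain ⟨t, u, v, rfl | rfl⟩ := (X.G1_gens g).1 hg
  · exact X.uu_mem_Gs t u v
  · exact X.tau_Gs (X.uu_mem_Gs t u v)

/-- The element `x_{a+b}(u^θ) x_{3a+b}(u)` and its opposite give `n(u)`. -/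
noncomputable def nn2 (X : Ree K) (u : K) : GL chevG2.Idx K := SG.ok.nG 8 (u ^ X.e) * SG.ok.nG 10 u

theorem uu_zero (u : K) : X.uu 0 u 0 = SG.ok.xG 8 (u ^ X.e) * SG.ok.xG 10 u := by
  have he : X.e ≠ 0 := (Nat.pow_pos (by norm_num : (0 : ℕ) < 3)).ne'
  simp [uu, w6, zero_pow he, SG.ok.xG_zero]

omit [Fintype K] X in
theorem pair_comm : ∀ r ∈ [8, 3], ∀ s ∈ [10, 1],
    r < chevG2.nroots ∧ s < chevG2.nroots ∧ s ≠ r ∧ s ≠ chevG2.neg r ∧ chevG2.commTerms r s = [] := by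
  decide +kernel

omit [Fintype K] X in
theorem comm_pair {r s : ℕ} (hr : r ∈ [8, 3]) (hs : s ∈ [10, 1]) (t u : K) :
    Commute (SG.ok.xG r t) (SG.ok.xG s u) := by
  obtain ⟨h1, h2, h3, h4, h5⟩ := pair_comm r hr s hs
  exact comm_of_terms h1 h2 h3 h4 h5 t u

theorem nn2_eq {u : K} (_hu : u ≠ 0) :
    X.nn2 u = X.uu 0 u 0 * tau K (X.uu 0 u⁻¹ 0) * X.uu 0 u 0 := by
  rw [X.uu_zero, X.uu_zero, map_mul, tau_xG (by decide +kernel), tau_xG (by decide +kernel), nn2, Ok.nG, Ok.nG,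
    show chevG2.neg 8 = 3 by decide +kernel, show chevG2.neg 10 = 1 by decide +kernel, inv_pow]
  set A := SG.ok.xG 8 (u ^ X.e)
  set B := SG.ok.xG 3 (-(u ^ X.e)⁻¹)
  set A' := SG.ok.xG 10 u
  set B' := SG.ok.xG 1 (-u⁻¹)
  have c1 : Commute A A' := comm_pair (by simp) (by simp) _ _
  have c2 : Commute A B' := comm_pair (by simp) (by simp) _ _
  have c3 : Commute B A' := comm_pair (by simp) (by simp) _ _
  show A * B * A * (A' * B' * A') = A * A' * (B * B') * (A * A')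
  symm
  calc A * A' * (B * B') * (A * A') = A * (A' * B) * (B' * A) * A' := by simp only [mul_assoc]
    _ = A * (B * A') * (A * B') * A' := by rw [← c3.eq, ← c2.eq]
    _ = A * B * (A' * A) * B' * A' := by simp only [mul_assoc]
    _ = A * B * (A * A') * B' * A' := by rw [← c1.eq]
    _ = A * B * A * (A' * B' * A') := by simp only [mul_assoc]

theorem nn2_mem {u : K} (hu : u ≠ 0) : X.nn2 u ∈ X.G1 := by
  rw [X.nn2_eq hu]
  exact mul_mem (mul_mem (X.uu_mem_G1 _ _ _) (X.vv_mem_G1 _ _ _)) (X.uu_mem_G1 _ _ _)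

omit [Fintype K] X in
theorem nG_mem_mono' {r : ℕ} (hr : r < chevG2.nroots) {t : K} (ht : t ≠ 0) :
    SG.ok.nG r t ∈ chevG2.monomialSubgroup K := by
  have hd : SG.ok.hG r t ∈ chevG2.diagonalSubgroup K := by
    rw [SG.ok.diagonalSubgroup_eq]; exact SG.ok.hG_mem_tRange hr ht
  have e : SG.ok.nG r t = SG.ok.hG r t * SG.ok.nG r 1 := by
    rw [Ok.hG, ← SG.ok.nG_inv, inv_mul_cancel_right]
  rw [e, SG.ok.monomialSubgroup_eq]
  exact mul_mem (Subgroup.mem_sup_left hd) (SG.ok.nG_mem_gen hr)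

theorem nn2_mem_mono {u : K} (hu : u ≠ 0) : X.nn2 u ∈ chevG2.monomialSubgroup K :=
  mul_mem (nG_mem_mono' (by decide +kernel) (pow_ne_zero _ hu)) (nG_mem_mono' (by decide +kernel) hu)

/-- The twelve permutations of the Weyl group. -/
noncomputable def permList : List (List ℕ) :=
  [[], [0], [1], [0, 1], [1, 0], [0, 1, 0], [1, 0, 1], [0, 1, 0, 1], [1, 0, 1, 0], [0, 1, 0, 1, 0],
    [1, 0, 1, 0, 1], [0, 1, 0, 1, 0, 1]].map fun L => (List.range 12).map fun r => G2.cert.wWord L r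

omit X in
theorem permList_facts : List.range 12 ∈ permList ∧
    (∀ P ∈ permList, ∀ i < 2, P.map (G2.cert.w i) ∈ permList) ∧
    (∀ P ∈ permList, (∀ r < 12, P.getD (ρ r) 0 = ρ (P.getD r 0)) →
      P = List.range 12 ∨ P = (List.range 12).map fun r => 11 - r) := by
  decide +kernel

omit [Fintype K] X in
theorem wpL_cases (L : List (Fin chevG2.rank)) (hc : ∀ (r r' : Fin chevG2.nroots), r'.val = ρ r.val →
    (SG.wpL L r').val = ρ (SG.wpL L r).val) :
    SG.wpL L = 1 ∨ ∀ r : Fin chevG2.nroots, (SG.wpL L r).val = 11 - r.val := by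
  have hmem : ∀ L : List (Fin chevG2.rank),
      (List.range 12).map (fun r => G2.cert.wWord (L.map fun i => i.val) r) ∈ permList := by
    intro L
    induction L with
    | nil => simpa [Cert.wWord] using permList_facts.1
    | cons i L ih =>
      have := permList_facts.2.1 _ ih i.val i.isLt
      rw [List.map_map] at this
      exact this
  have hget : ∀ r (hr : r < 12), ((List.range 12).map (fun r => G2.cert.wWord (L.map fun i => i.val) r)).getD r 0 =
      (SG.wpL L ⟨r, hr⟩).val := fun r hr => by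
    rw [List.getD_eq_getElem _ _ (by simpa using hr)]
    simp only [List.getElem_map, List.getElem_range]
    exact SG.wWord_eq L ⟨r, hr⟩
  have h12 : chevG2.nroots = 12 := rfl
  rcases permList_facts.2.2 _ (hmem L) (fun r hr => by
      obtain ⟨h1, -⟩ := tables r hr
      rw [hget _ h1, hget _ hr]
      exact hc ⟨r, hr⟩ ⟨ρ r, h1⟩ rfl) with h | h
  · refine Or.inl (Equiv.ext fun r => Fin.ext ?_)
    have e := hget r.val r.isLt
    rw [h, List.getD_eq_getElem _ _ (by simpa [h12] using r.isLt), List.getElem_range] at e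
    exact e.symm
  · refine Or.inr fun r => ?_
    have e := hget r.val r.isLt
    rw [h, List.getD_eq_getElem _ _ (by simpa [h12] using r.isLt)] at e
    simpa using e.symm

omit [Fintype K] X in
theorem xG_index {a b : Fin chevG2.nroots} {s s' : K} (hs : s ≠ 0)
    (h : SG.ok.xG a.val s = SG.ok.xG b.val s') : a = b := by
  by_contra hne
  have h0 := congrArg (SG.coef a) h
  rw [SG.coef_xG _ a.isLt, SG.coef_xG _ b.isLt, if_pos rfl,
    if_neg (fun e => hne (Fin.ext e).symm)] at h0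
  exact hs h0

theorem sg_mem_diag {d : GL chevG2.Idx K} (hd : d ∈ chevG2.diagonalSubgroup K) :
    X.sg d ∈ chevG2.diagonalSubgroup K := by
  rw [diag_eq] at hd ⊢
  obtain ⟨c, rfl⟩ := hd
  rw [X.sg_tG]
  exact ⟨_, rfl⟩

theorem sg_mem_mono {n : GL chevG2.Idx K} (hn : n ∈ chevG2.monomialSubgroup K) :
    X.sg n ∈ chevG2.monomialSubgroup K := by
  let Z : Subgroup (GL chevG2.Idx K) :=
    { carrier := {g | g ∈ chevG2.group K ∧ X.sg g ∈ chevG2.monomialSubgroup K}
      one_mem' := ⟨one_mem _, by rw [X.sg_one]; exact one_mem _⟩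
      mul_mem' := fun {a b} ha hb => ⟨mul_mem ha.1 hb.1, by rw [X.sg_mul ha.1 hb.1]; exact mul_mem ha.2 hb.2⟩
      inv_mem' := fun {a} ha => ⟨inv_mem ha.1, by rw [X.sg_inv ha.1]; exact inv_mem ha.2⟩ }
  have : chevG2.monomialSubgroup K ≤ Z := by
    rw [SG.ok.monomialSubgroup_eq]
    refine sup_le (fun d hd => ⟨SG.diag_le_group hd,
      (le_sup_left : chevG2.diagonalSubgroup K ≤ chevG2.monomialSubgroup K) (X.sg_mem_diag hd)⟩) ?_
    refine (Subgroup.closure_le _).2 ?_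
    rintro g ⟨i, hi, rfl⟩
    have hlt : chevG2.simple i < chevG2.nroots := by rw [← SG.ok.sr_eq hi]; exact SG.ok.sr_lt hi
    refine ⟨SG.ok.nG_mem_group _ _, ?_⟩
    rw [X.sg_nG hlt, one_pow]
    exact nG_mem_mono' (tables _ hlt).1 one_ne_zero
  exact (this hn).2

theorem w_fixed {n d : GL chevG2.Idx K} (hn : n ∈ chevG2.monomialSubgroup K)
    (hd : d ∈ chevG2.diagonalSubgroup K) (e : X.sg n = n * d) {L : List (Fin chevG2.rank)}
    (ha : Act SG.ok n (SG.wpL L)) :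
    SG.wpL L = 1 ∨ ∀ r : Fin chevG2.nroots, (SG.wpL L r).val = 11 - r.val := by
  refine wpL_cases L fun r r' hr' => ?_
  have ha' : Act SG.ok (X.sg n) (SG.wpL L) := by
    rw [e]; simpa using SG.act_mul ha (SG.act_diag hd)
  obtain ⟨-, c, hc, hcx⟩ := ha r
  obtain ⟨-, c', hc', hcx'⟩ := ha' r'
  have h1 := congrArg X.sg (hcx 1).1
  have hng : n ∈ chevG2.group K := SG.mono_le_group hn
  rw [X.sg_mul (mul_mem hng (SG.ok.xG_mem_group _ _)) (inv_mem hng), X.sg_mul hng (SG.ok.xG_mem_group _ _),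
    X.sg_inv hng, X.sg_xG r.isLt, one_pow, X.sg_xG (SG.wpL L r).isLt, ← hr', (hcx' 1).1, mul_one] at h1
  have := xG_index (b := ⟨ρ (SG.wpL L r).val, (tables _ (SG.wpL L r).isLt).1⟩) hc' h1
  exact congrArg Fin.val this

theorem nn2_act {u : K} (hu : u ≠ 0) : ∃ L, Act SG.ok (X.nn2 u) (SG.wpL L) ∧
    ∀ r : Fin chevG2.nroots, (SG.wpL L r).val = 11 - r.val := by
  have := charP_three X.hK
  have hm := X.nn2_mem_mono hu
  obtain ⟨L, hact, hiff⟩ := SG.exists_act hm
  rcases X.w_fixed hm (one_mem _) (by rw [mul_one]; exact (X.G1_le (X.nn2_mem hu)).2) hact with h | h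
  · exfalso
    have hd := hiff.1 h
    have hQ : tau K (X.uu 0 u⁻¹ 0) ∈ chevG2.borelSubgroup K ⊓ chevG2.negUnipotent K := by
      refine Subgroup.mem_inf.2 ⟨?_, ?_⟩
      · have e := X.nn2_eq hu
        rw [show tau K (X.uu 0 u⁻¹ 0) = (X.uu 0 u 0)⁻¹ * X.nn2 u * (X.uu 0 u 0)⁻¹ by rw [e]; group]
        have hb := SG.B_le_of (X.uu_mem_U 0 u 0)
        exact mul_mem (mul_mem (inv_mem hb) (Subgroup.mem_sup_right hd)) (inv_mem hb)
      · rw [X.uu_zero, map_mul, tau_xG (by decide +kernel), tau_xG (by decide +kernel)]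
        refine mul_mem ?_ ?_ <;>
          exact Subgroup.subset_closure ⟨_, _, SG.isNeg_iff.2 (by decide +kernel), SG.ok.val_xG _ _⟩
    rw [SG.B_inf_V okNeg_G2, Subgroup.mem_bot, ← map_one (tau K)] at hQ
    have h1 := tau_inj hQ
    rw [uu] at h1
    have h0 : w6 (0 : K) 0 0 0 0 0 = 1 := by simp [w6, SG.ok.xG_zero]
    obtain ⟨-, -, -, -, h5, -⟩ := w6_inj (h1.trans h0.symm)
    exact inv_ne_zero hu h5
  · exact ⟨L, hact, h⟩

/-- The representative of the non-trivial element. -/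
noncomputable def n0 (X : Ree K) : GL chevG2.Idx K := X.nn2 1

theorem n0_mem : X.n0 ∈ X.G1 := X.nn2_mem one_ne_zero

theorem n0_mono : X.n0 ∈ chevG2.monomialSubgroup K := X.nn2_mem_mono one_ne_zero

theorem n0_not_borel : X.n0 ∉ chevG2.borelSubgroup K := by
  intro hb
  have hd : X.n0 ∈ chevG2.diagonalSubgroup K := by
    rw [← SG.B_inf_N]; exact Subgroup.mem_inf.2 ⟨hb, X.n0_mono⟩
  obtain ⟨L, ha, hL⟩ := X.nn2_act (u := (1 : K)) one_ne_zero
  have h1 : SG.wpL L = 1 := SG.act_unique ha (SG.act_diag hd)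
  have := hL ⟨0, by decide +kernel⟩
  rw [h1] at this
  exact absurd this (by simp)

theorem sg_mem_B {b : GL chevG2.Idx K} (hb : b ∈ chevG2.borelSubgroup K) : X.sg b ∈ chevG2.borelSubgroup K := by
  obtain ⟨u, hu, d, hd, rfl⟩ := SG.borel_decomp hb
  rw [X.sg_mul (U_le_group hu) (SG.diag_le_group hd)]
  exact mul_mem (SG.B_le_of (X.sg_mem_U hu)) (Subgroup.mem_sup_right (X.sg_mem_diag hd))

theorem borel_fixed {b : GL chevG2.Idx K} (hb : b ∈ chevG2.borelSubgroup K) (hfix : X.sg b = b) :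
    ∃ t u v, ∃ s : Kˣ, b = X.uu t u v * X.hh s := by
  have := charP_three X.hK
  obtain ⟨u, hu, d, hd, rfl⟩ := SG.borel_decomp hb
  rw [X.sg_mul (U_le_group hu) (SG.diag_le_group hd)] at hfix
  have h1 : u⁻¹ * X.sg u ∈ chevG2.posUnipotent K ⊓ chevG2.diagonalSubgroup K := by
    refine Subgroup.mem_inf.2 ⟨mul_mem (inv_mem hu) (X.sg_mem_U hu), ?_⟩
    rw [show u⁻¹ * X.sg u = u⁻¹ * (X.sg u * X.sg d) * (X.sg d)⁻¹ by group, hfix, inv_mul_cancel_left]
    exact mul_mem hd (inv_mem (X.sg_mem_diag hd))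
  rw [SG.U_inf_H, Subgroup.mem_bot] at h1
  have hu' : X.sg u = u := (inv_mul_eq_one.1 h1).symm
  rw [hu'] at hfix
  have hd' : d ∈ chevG2.diagonalSubgroup K ⊓ X.Gs :=
    Subgroup.mem_inf.2 ⟨hd, SG.diag_le_group hd, mul_left_cancel hfix⟩
  rw [X.H_fixed] at hd'
  obtain ⟨s, rfl⟩ := hd'
  obtain ⟨t, a, v, rfl⟩ := (X.U_fixed hu).1 hu'
  exact ⟨t, a, v, s, rfl⟩

theorem Gs_cases {g : GL chevG2.Idx K} (hg : g ∈ X.Gs) :
    (∃ t u v, ∃ s : Kˣ, g = X.uu t u v * X.hh s) ∨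
      ∃ t u v, ∃ s : Kˣ, ∃ t' u' v', g = X.uu t u v * X.hh s * X.n0 * X.uu t' u' v' := by
  have := charP_three X.hK
  obtain ⟨b, hb, n, hn, L, ha, u, hu, rfl⟩ := SG.normal_form okNeg_G2 hg.1
  have hbG := SG.borel_le_group hb
  have hnG := SG.mono_le_group hn
  have huU : u ∈ chevG2.posUnipotent K := SG.UPsi_le _ hu
  have hfix := hg.2
  rw [X.sg_mul (mul_mem hbG hnG) (U_le_group huU), X.sg_mul hbG hnG] at hfix
  have hd := SG.normal_form_cong okNeg_G2 hb (X.sg_mem_B hb) hn (X.sg_mem_mono hn) huU (X.sg_mem_U huU) hfix.symm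
  rcases X.w_fixed hn hd (mul_inv_cancel_left n (X.sg n)).symm ha with hw | hw
  · left
    obtain ⟨M, hM, hiff⟩ := SG.exists_act hn
    have hnd := hiff.1 ((SG.act_unique hM ha).trans hw)
    exact X.borel_fixed (mul_mem (mul_mem hb (Subgroup.mem_sup_right hnd)) (SG.B_le_of huU)) hg.2
  · right
    obtain ⟨L0, ha0, hw0⟩ := X.nn2_act (u := (1 : K)) one_ne_zero
    have hLL : SG.wpL L = SG.wpL L0 := Equiv.ext fun r => Fin.ext ((hw r).trans (hw0 r).symm)
    obtain ⟨M, hM, hiff⟩ := SG.exists_act (mul_mem hn (inv_mem X.n0_mono))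
    have hnd : n * X.n0⁻¹ ∈ chevG2.diagonalSubgroup K := hiff.1 (by
      have h1 := SG.act_mul hM (g' := X.n0) ha0
      rw [inv_mul_cancel_right] at h1
      have := SG.act_unique ha h1
      rw [hLL] at this
      exact mul_eq_right.1 this.symm)
    have hb' : b * (n * X.n0⁻¹) ∈ chevG2.borelSubgroup K := mul_mem hb (Subgroup.mem_sup_right hnd)
    have hge : b * n * u = b * (n * X.n0⁻¹) * X.n0 * u := by group
    have hall : ∀ w ∈ chevG2.posUnipotent K, w ∈ SG.UPsi K (Struct.Neg chevG2 (SG.wpL L0)) := by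
      have : chevG2.posUnipotent K ≤ SG.UPsi K (Struct.Neg chevG2 (SG.wpL L0)) := by
        refine Subgroup.closure_mono ?_
        rintro x ⟨r, t, hr, hx⟩
        obtain ⟨h6, h12⟩ := SG.isPos_iff.1 hr
        refine ⟨⟨r, h12⟩, t, h6, ?_, SG.ok.eq_xG hx⟩
        show (SG.wpL L0 ⟨r, h12⟩).val < chevG2.nroots / 2
        rw [hw0]
        have : chevG2.nroots = 12 := rfl
        simp only [this] at h6 h12 ⊢
        omega
      exact fun w hw => this hw
    have hfix' : X.sg (b * (n * X.n0⁻¹)) * X.n0 * X.sg u = b * (n * X.n0⁻¹) * X.n0 * u := by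
      have e := hg.2
      rw [hge, X.sg_mul (mul_mem (SG.borel_le_group hb') (SG.mono_le_group X.n0_mono)) (U_le_group huU),
        X.sg_mul (SG.borel_le_group hb') (SG.mono_le_group X.n0_mono), (X.G1_le X.n0_mem).2] at e
      exact e
    obtain ⟨h1, h2⟩ := SG.normal_form_unique okNeg_G2 (X.sg_mem_B hb') hb' ha0
      (hall _ (X.sg_mem_U huU)) (hall _ huU) hfix'
    obtain ⟨t, a, v, s, he⟩ := X.borel_fixed hb' h1
    obtain ⟨t', a', v', rfl⟩ := (X.U_fixed huU).1 h2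
    exact ⟨t, a, v, s, t', a', v', by rw [hge, he]⟩

theorem hh_neg_one_mem : X.hh (-1) ∈ X.G1 := by
  have := charP_three X.hK
  let φ : ZMod 3 →+* K := ZMod.castHom (dvd_refl 3) K
  have key := Word.key
  have hmap : ∀ w : List (ℕ × ZMod 3),
      (chevG2.wordMat (ZMod 3) w).map φ = chevG2.wordMat K (w.map fun p => (p.1, φ p.2)) := fun w => by
    show φ.mapMatrix ((w.map fun p => chevG2.x (ZMod 3) p.1 p.2).prod) = _
    rw [map_list_prod, List.map_map, ChevalleyDatum.wordMat, List.map_map]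
    exact congrArg List.prod (List.map_congr_left fun p _ => Ok.map_x chevG2 φ p.1 p.2)
  have key' := congrArg (fun M : Matrix chevG2.Idx chevG2.Idx (ZMod 3) => M.map φ) key
  simp only [hmap] at key'
  simp only [List.map_append, List.map_cons, List.map_nil, map_one, map_neg, map_zero] at key'
  have he : X.e ≠ 0 := (Nat.pow_pos (by norm_num : (0 : ℕ) < 3)).ne'
  have hword : X.uu 1 0 0 * tau K (X.uu 1 0 0) * tau K (X.uu 1 0 0) * X.uu 1 0 0 * tau K (X.uu 0 1 0) *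
      X.uu 0 0 1 = X.hh (-1) := by
    refine Units.ext ?_
    simp only [Units.val_mul, uu, val_w6, val_tau_w6, one_pow, zero_pow he, add_zero, zero_add,
      zero_pow (Nat.succ_ne_zero _), neg_zero]
    simp only [ChevalleyDatum.wordMat] at key'
    simp only [List.map_append, List.prod_append] at key'
    simp only [ChevalleyDatum.wordMat]
    rw [← key', X.hh_apply]
    have e2 : (![(-1 : Kˣ) ^ X.e, -1] : Fin 2 → Kˣ) = Pi.mulSingle 0 (-1) * Pi.mulSingle 1 (-1) := by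
      funext i
      fin_cases i <;> simp [Odd.neg_one_pow (show Odd X.e from Odd.pow (by decide))]
    rw [e2, map_mul, ← hG_eq_tt, ← hG_eq_tt, Units.val_mul, SG.ok.val_hG, SG.ok.val_hG, ChevalleyDatum.hMat,
      ChevalleyDatum.hMat, ChevalleyDatum.wordMat, ChevalleyDatum.wordMat, ← List.prod_append, ← List.map_append]
    have s0 : chevG2.simple ((0 : Fin 2) : ℕ) = 7 := by decide +kernel
    have s1 : chevG2.simple ((1 : Fin 2) : ℕ) = 6 := by decide +kernel
    rw [s0, s1]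
    simp [ChevalleyDatum.hWord, ChevalleyDatum.nWord, show chevG2.neg 7 = 4 by decide +kernel,
      show chevG2.neg 6 = 5 by decide +kernel]
  rw [← hword]
  refine mul_mem (mul_mem (mul_mem (mul_mem (mul_mem ?_ ?_) ?_) ?_) ?_) ?_
  exacts [X.uu_mem_G1 _ _ _, X.vv_mem_G1 _ _ _, X.vv_mem_G1 _ _ _, X.uu_mem_G1 _ _ _, X.vv_mem_G1 _ _ _,
    X.uu_mem_G1 _ _ _]

omit [Fintype K] X in
theorem conj_tt (i : Fin 2) (c : Fin 2 → Kˣ) :
    SG.ok.nG (chevG2.simple (i : ℕ)) 1 * tt K c * (SG.ok.nG (chevG2.simple (i : ℕ)) 1)⁻¹ =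
      tt K (c * Pi.mulSingle i (c 0 ^ (-chevG2.cartan 0 (chevG2.simple (i : ℕ))) *
        c 1 ^ (-chevG2.cartan 1 (chevG2.simple (i : ℕ))))) := by
  refine (SG.ok.conj_nG_tG (F := K) i c).trans (congrArg (tt K) ?_)
  show c * Pi.mulSingle i (∏ j : Fin 2, c j ^ (-chevG2.cartan (j : ℕ) (chevG2.simple (i : ℕ)))) = _
  rw [Fin.prod_univ_two]
  rfl

omit [Fintype K] X in
theorem hG8 (v : Kˣ) : SG.ok.hG 8 (v : K) = tt K ![v, v ^ 3] := by
  have e8 : G2.cert.w 1 (chevG2.simple 0) = 8 := by decide +kernel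
  have h := SG.ok.conj_nG_hG (i := 1) (by decide +kernel) (r := chevG2.simple 0) (by decide +kernel) v.ne_zero
  rw [e8] at h
  rw [← h, show SG.ok.hG (chevG2.simple 0) (v : K) = tt K (Pi.mulSingle 0 v) from hG_eq_tt 0 v]
  have c0 : chevG2.cartan 0 (chevG2.simple 1) = -3 := by decide +kernel
  refine (conj_tt 1 (Pi.mulSingle 0 v)).trans (congrArg (tt K) ?_)
  simp only [Fin.val_one, c0]
  funext i
  fin_cases i <;> simp

omit [Fintype K] X in
theorem hG10 (v : Kˣ) : SG.ok.hG 10 (v : K) = tt K ![v, v] := by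
  have e10 : G2.cert.w 0 (chevG2.simple 1) = 10 := by decide +kernel
  have h := SG.ok.conj_nG_hG (i := 0) (by decide +kernel) (r := chevG2.simple 1) (by decide +kernel) v.ne_zero
  rw [e10] at h
  rw [← h, show SG.ok.hG (chevG2.simple 1) (v : K) = tt K (Pi.mulSingle 1 v) from hG_eq_tt 1 v]
  have c1 : chevG2.cartan 1 (chevG2.simple 0) = -1 := by decide +kernel
  refine (conj_tt 0 (Pi.mulSingle 1 v)).trans (congrArg (tt K) ?_)
  simp only [Fin.val_zero, c1]
  funext i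
  fin_cases i <;> simp

theorem hh_pow_mem (u : Kˣ) : X.hh (u ^ (3 * X.e + 1)) ∈ X.G1 := by
  have hm : X.nn2 (u : K) * X.nn2 (-1) ∈ X.G1 := mul_mem (X.nn2_mem u.ne_zero) (X.nn2_mem (by simp))
  have e : X.nn2 (u : K) * X.nn2 (-1) = SG.ok.hG 8 ((u ^ X.e : Kˣ) : K) * SG.ok.hG 10 (u : K) := by
    have cc : Commute (SG.ok.nG 10 (u : K)) (SG.ok.nG 8 (-1)) := by
      simp only [Ok.nG, show chevG2.neg 8 = 3 by decide +kernel, show chevG2.neg 10 = 1 by decide +kernel]
      have h : ∀ r ∈ [8, 3], ∀ s ∈ [10, 1], ∀ a b : K, Commute (SG.ok.xG s b) (SG.ok.xG r a) :=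
        fun r hr s hs a b => (comm_pair hr hs a b).symm
      have h' : ∀ s ∈ [10, 1], ∀ b : K, Commute (SG.ok.xG s b)
          (SG.ok.xG 8 (-1 : K) * SG.ok.xG 3 (-(-1 : K)⁻¹) * SG.ok.xG 8 (-1)) := fun s hs b =>
        ((h 8 (by simp) s hs _ b).mul_right (h 3 (by simp) s hs _ b)).mul_right (h 8 (by simp) s hs _ b)
      exact ((h' 10 (by simp) _).mul_left (h' 1 (by simp) _)).mul_left (h' 10 (by simp) _)
    rw [Units.val_pow_eq_pow_val, nn2, nn2, (show Odd X.e from Odd.pow (by decide)).neg_one_pow, Ok.hG, Ok.hG,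
      mul_assoc, ← mul_assoc (SG.ok.nG 10 (u : K)), cc.eq]
    simp only [mul_assoc]
  rw [e, hG8, hG10, ← map_mul] at hm
  have e2 : (![u ^ X.e, (u ^ X.e) ^ 3] * ![u, u] : Fin 2 → Kˣ) =
      ![(u ^ (3 * X.e + 1)) ^ X.e, u ^ (3 * X.e + 1)] := by
    funext i
    fin_cases i
    · refine Units.ext ?_
      simp only [Pi.mul_apply, Fin.zero_eta, Matrix.cons_val_zero, Units.val_mul, Units.val_pow_eq_pow_val,
        ← pow_mul]
      rw [show (3 * X.e + 1) * X.e = 3 * X.e * X.e + X.e by ring, pow_add, X.pow_q, mul_comm]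
    · simp [pow_succ]
      rw [← pow_add, ← pow_add]
      congr 1
      ring
  rw [e2] at hm
  rw [X.hh_apply]
  exact hm

theorem hh_mem (t : Kˣ) : X.hh t ∈ X.G1 := by
  have he : Odd X.e := Odd.pow (by decide)
  obtain ⟨k, hk⟩ := he
  have hu := X.hh_pow_mem (t ^ ((3 * X.e - 1) / 2))
  rw [← pow_mul] at hu
  obtain ⟨Q, hQ⟩ : ∃ Q, Fintype.card K = 2 * Q + 1 := by
    have : Odd (Fintype.card K) := by rw [X.hK]; exact Odd.pow (by decide)
    exact this
  have h1 : t ^ ((3 * X.e - 1) / 2 * (3 * X.e + 1)) = t * (t ^ Q) ^ 3 := by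
    rw [← pow_mul, ← pow_succ']
    congr 1
    have h3 : 3 * X.e * X.e = 2 * Q + 1 := by
      rw [← hQ, X.hK, e, pow_succ, two_mul, pow_add]; ring
    have h4 : (3 * X.e - 1) / 2 = 3 * k + 1 := by omega
    rw [h4, hk] at *
    nlinarith
  have h2 : t ^ Q = 1 ∨ t ^ Q = -1 := by
    have : (t ^ Q : Kˣ) * t ^ Q = 1 := by
      refine Units.ext ?_
      rw [Units.val_mul, Units.val_pow_eq_pow_val, ← pow_add, Units.val_one]
      have h := FiniteField.pow_card_sub_one_eq_one (t : K) t.ne_zero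
      rwa [hQ, show 2 * Q + 1 - 1 = Q + Q by omega] at h
    rcases mul_self_eq_one_iff.1 (congrArg Units.val this) with e | e
    · exact Or.inl (Units.ext e)
    · exact Or.inr (Units.ext (by simpa using e))
  rw [h1] at hu
  rcases h2 with h | h <;> rw [h] at hu
  · simpa using hu
  · have := mul_mem hu X.hh_neg_one_mem
    rw [← map_mul] at this
    rwa [show t * (-1 : Kˣ) ^ 3 * -1 = t by rw [pow_succ, pow_two]; simp] at this

theorem G1_eq : X.G1 = X.Gs := by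
  refine le_antisymm X.G1_le fun g hg => ?_
  rcases X.Gs_cases hg with ⟨t, u, v, s, rfl⟩ | ⟨t, u, v, s, t', u', v', rfl⟩
  · exact mul_mem (X.uu_mem_G1 _ _ _) (X.hh_mem s)
  · exact mul_mem (mul_mem (mul_mem (X.uu_mem_G1 _ _ _) (X.hh_mem s)) X.n0_mem) (X.uu_mem_G1 _ _ _)

end Ree

end Cfsg.Lib.Chev.Ree
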