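import Cfsg.Agent.Chev.Isog.Data
import Cfsg.Agent.Chev.Basic
import Cfsg.Agent.Chev.Bruhat
import Cfsg.Agent.Chev.Graph
import Cfsg.Agent.Chev.St.CenterData
import Cfsg.Prelude.Def_LieTwisted

/-! The automorphism defining the small Ree groups and its fixed elements in `U` and `H`. -/

set_option autoImplicit false

open Cfsg.Lie

set_option linter.dupNamespace false

namespace Cfsg.Lib.Chev.Ree

open Isog

/-- The verified datum of type G₂. -/
theorem SG : Struct chevG2 G2.cert := ⟨G2.ok, G2.okChain_, G2.okBase_all, okOrder_G2⟩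

/-- The image of a root. -/
abbrev ρ (r : ℕ) : ℕ := isoG2.rh r

/-- The automorphism of the Chevalley group. -/
structure Ree (K : Type*) [Field K] [Fintype K] where
  /-- half the exponent of the field -/
  m : ℕ
  hK : Fintype.card K = 3 ^ (2 * m + 1)
  /-- the automorphism -/
  σ : ↥(chevG2.group K) ≃* ↥(chevG2.group K)
  hσ : ∀ r < chevG2.nroots, ∀ (t : K) (g : ↥(chevG2.group K)), (g : GL chevG2.Idx K) = SG.ok.xG r t →
    (σ g : GL chevG2.Idx K) = SG.ok.xG (ρ r) (t ^ (isoG2.lm r * 3 ^ m))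

variable {K : Type*} [Field K] [Fintype K]

theorem charP_three {m : ℕ} (hK : Fintype.card K = 3 ^ (2 * m + 1)) : CharP K 3 := by
  obtain ⟨p, hp⟩ := CharP.exists K
  obtain ⟨n, hp', hn⟩ := FiniteField.card K p
  have : p = 3 := by
    have h : p ∣ 3 ^ (2 * m + 1) := by rw [← hK, hn]; exact dvd_pow_self p n.pos.ne'
    exact (Nat.prime_dvd_prime_iff_eq hp' Nat.prime_three).1 (hp'.dvd_of_dvd_pow h)
  exact this ▸ hp

theorem exists_ree {m : ℕ} (hK : Fintype.card K = 3 ^ (2 * m + 1)) : ∃ X : Ree K, X.m = m := by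
  have := charP_three hK
  have : Fact (Nat.Prime 3) := ⟨Nat.prime_three⟩
  have : CharP K isoG2.p := ‹CharP K 3›
  obtain ⟨α, hα⟩ := exists_isogeny (K := K) SG okNeg_G2 ⟨_, St.okSt_G2⟩ Nat.prime_three okIso_G2 (by simp)
    (fun x => (Finite.injective_iff_surjective.1 (frobenius_inj K 3) x))
  let f : K ≃+* K := RingEquiv.ofBijective (iterateFrobenius K 3 m)
    ⟨(iterateFrobenius K 3 m).injective, Finite.injective_iff_surjective.1 (iterateFrobenius K 3 m).injective⟩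
  obtain ⟨β, hβ⟩ := SG.ok.exists_fieldAut f
  refine ⟨⟨m, hK, α.trans β, fun r hr t g hg => ?_⟩, rfl⟩
  have h1 := hα r hr t g hg
  obtain ⟨h2, -, -, -⟩ := okIso_root okIso_G2 hr
  refine Units.ext ((hβ (α g) _ _ h2 (congrArg Units.val h1)).trans ?_)
  show chevG2.x K _ (iterateFrobenius K 3 m _) = _
  rw [iterateFrobenius_def, ← pow_mul]
  rfl

theorem tables : ∀ r < chevG2.nroots, ρ r < chevG2.nroots ∧ (isoG2.lm r = 1 ∨ isoG2.lm r = 3) ∧
    ρ (chevG2.neg r) = chevG2.neg (ρ r) ∧ isoG2.lm (chevG2.neg r) = isoG2.lm r ∧ ρ (ρ r) = r ∧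
    chevG2.neg r = 11 - r ∧ ρ (11 - r) = 11 - ρ r ∧ isoG2.lm (11 - r) = isoG2.lm r ∧
    (6 ≤ ρ r ↔ 6 ≤ r) := by decide +kernel

namespace Ree

variable (X : Ree K)

/-- The exponent of the twist. -/
def e (X : Ree K) : ℕ := 3 ^ X.m

theorem pow_q (t : K) : t ^ (3 * X.e * X.e) = t := by
  have h : 3 * X.e * X.e = Fintype.card K := by rw [X.hK, e, pow_succ, two_mul, pow_add]; ring
  rw [h, FiniteField.pow_card]

theorem pow_e_add (t u : K) : (t + u) ^ X.e = t ^ X.e + u ^ X.e := by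
  have := charP_three X.hK
  have : Fact (Nat.Prime 3) := ⟨Nat.prime_three⟩
  exact add_pow_char_pow t u 3 X.m

theorem pow_3e_add (t u : K) : (t + u) ^ (3 * X.e) = t ^ (3 * X.e) + u ^ (3 * X.e) := by
  have := charP_three X.hK
  have : Fact (Nat.Prime 3) := ⟨Nat.prime_three⟩
  rw [show 3 * X.e = 3 ^ (X.m + 1) by rw [e, pow_succ]; ring]
  exact add_pow_char_pow t u 3 (X.m + 1)

theorem odd_exp {r : ℕ} (hr : r < chevG2.nroots) : Odd (isoG2.lm r * X.e) := by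
  refine Odd.mul ?_ (Odd.pow (by decide))
  obtain ⟨-, hl, -⟩ := tables r hr
  rcases hl with h | h <;> rw [h] <;> decide

theorem neg_pow_e (t : K) : (-t) ^ X.e = -(t ^ X.e) := Odd.neg_pow (Odd.pow (by decide)) t

theorem neg_pow_3e (t : K) : (-t) ^ (3 * X.e) = -(t ^ (3 * X.e)) :=
  Odd.neg_pow (Odd.mul (by decide) (Odd.pow (by decide))) t

/-- The automorphism as a function on matrices. -/
noncomputable def sg (X : Ree K) (g : GL chevG2.Idx K) : GL chevG2.Idx K :=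
  open scoped Classical in if h : g ∈ chevG2.group K then (X.σ ⟨g, h⟩ : GL chevG2.Idx K) else g

theorem sg_mem {g : GL chevG2.Idx K} (hg : g ∈ chevG2.group K) : X.sg g ∈ chevG2.group K := by
  rw [sg, dif_pos hg]; exact SetLike.coe_mem _

theorem sg_mul {g h : GL chevG2.Idx K} (hg : g ∈ chevG2.group K) (hh : h ∈ chevG2.group K) :
    X.sg (g * h) = X.sg g * X.sg h := by
  rw [sg, sg, sg, dif_pos hg, dif_pos hh, dif_pos (mul_mem hg hh), ← Subgroup.coe_mul, ← map_mul]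
  rfl

theorem sg_one : X.sg 1 = 1 := by
  rw [sg, dif_pos (one_mem _)]
  exact congrArg Subtype.val (map_one X.σ)

theorem sg_inv {g : GL chevG2.Idx K} (hg : g ∈ chevG2.group K) : X.sg g⁻¹ = (X.sg g)⁻¹ := by
  rw [sg, sg, dif_pos hg, dif_pos (inv_mem hg), ← Subgroup.coe_inv, ← map_inv]
  rfl

theorem sg_xG {r : ℕ} (hr : r < chevG2.nroots) (t : K) :
    X.sg (SG.ok.xG r t) = SG.ok.xG (ρ r) (t ^ (isoG2.lm r * X.e)) := by
  rw [sg, dif_pos (SG.ok.xG_mem_group r t)]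
  exact X.hσ r hr t _ rfl

theorem sg_wG : ∀ (w : List (ℕ × K)), (∀ p ∈ w, p.1 < chevG2.nroots) →
    X.sg (SG.ok.wG w) = SG.ok.wG (w.map fun p => (ρ p.1, p.2 ^ (isoG2.lm p.1 * X.e)))
  | [], _ => by simpa [Ok.wG] using X.sg_one
  | p :: w, h => by
    have ih := sg_wG w fun q hq => h q (List.mem_cons_of_mem _ hq)
    have hw : SG.ok.wG w ∈ chevG2.group K := list_prod_mem fun g hg => by
      obtain ⟨q, -, rfl⟩ := List.mem_map.1 hg
      exact SG.ok.xG_mem_group _ _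
    simp only [Ok.wG, List.map_cons, List.prod_cons] at ih hw ⊢
    rw [X.sg_mul (SG.ok.xG_mem_group _ _) hw, ih, X.sg_xG (h p List.mem_cons_self)]

theorem sg_nG {r : ℕ} (hr : r < chevG2.nroots) (t : K) :
    X.sg (SG.ok.nG r t) = SG.ok.nG (ρ r) (t ^ (isoG2.lm r * X.e)) := by
  obtain ⟨-, -, hn, hln, -, hneg, -⟩ := tables r hr
  have hn' : chevG2.neg r < chevG2.nroots := by rw [hneg]; show 11 - r < 12; omega
  have e : ∀ (a : ℕ) (v : K), SG.ok.nG a v = SG.ok.wG [(a, v), (chevG2.neg a, -v⁻¹), (a, v)] := fun a v => by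
    simp [Ok.wG, Ok.nG, mul_assoc]
  rw [e, X.sg_wG _ (by simp [hr, hn']), e]
  simp only [List.map_cons, List.map_nil]
  rw [hn, hln, (X.odd_exp hr).neg_pow t⁻¹, inv_pow]

theorem sg_hG {r : ℕ} (hr : r < chevG2.nroots) (t : K) :
    X.sg (SG.ok.hG r t) = SG.ok.hG (ρ r) (t ^ (isoG2.lm r * X.e)) := by
  rw [Ok.hG, X.sg_mul (SG.ok.nG_mem_group _ _) (SG.ok.nG_mem_group _ _), X.sg_nG hr, X.sg_nG hr, Ok.hG,
    (X.odd_exp hr).neg_pow 1, one_pow]

/-- The fixed elements. -/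
noncomputable def Gs (X : Ree K) : Subgroup (GL chevG2.Idx K) where
  carrier := {g | g ∈ chevG2.group K ∧ X.sg g = g}
  one_mem' := ⟨one_mem _, X.sg_one⟩
  mul_mem' := fun {a b} ha hb => ⟨mul_mem ha.1 hb.1, by rw [X.sg_mul ha.1 hb.1, ha.2, hb.2]⟩
  inv_mem' := fun {a} ha => ⟨inv_mem ha.1, by rw [X.sg_inv ha.1, ha.2]⟩

theorem sg_mem_U {g : GL chevG2.Idx K} (hg : g ∈ chevG2.posUnipotent K) : X.sg g ∈ chevG2.posUnipotent K := by
  have hle : chevG2.posUnipotent K ≤ chevG2.group K :=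
    fun g hg => SG.borel_le_group (SG.B_le_of hg)
  let Z : Subgroup (GL chevG2.Idx K) :=
    { carrier := {g | g ∈ chevG2.group K ∧ X.sg g ∈ chevG2.posUnipotent K}
      one_mem' := ⟨one_mem _, by rw [X.sg_one]; exact one_mem _⟩
      mul_mem' := fun {a b} ha hb => ⟨mul_mem ha.1 hb.1, by rw [X.sg_mul ha.1 hb.1]; exact mul_mem ha.2 hb.2⟩
      inv_mem' := fun {a} ha => ⟨inv_mem ha.1, by rw [X.sg_inv ha.1]; exact inv_mem ha.2⟩ }
  have : chevG2.posUnipotent K ≤ Z := (Subgroup.closure_le _).2 (by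
    rintro x ⟨r, t, hr, hx⟩
    obtain ⟨a, b⟩ := SG.isPos_iff.1 hr
    refine ⟨hle (Subgroup.subset_closure ⟨r, t, hr, hx⟩), ?_⟩
    obtain ⟨h1, -, -, -, -, -, -, -, h6⟩ := tables r b
    rw [SG.ok.eq_xG hx, X.sg_xG b]
    exact SG.xG_mem_U (h6.2 a) h1 _)
  exact (this hg).2

/-- The torus with index set `Fin 2`. -/
noncomputable def tt (K : Type*) [Field K] : (Fin 2 → Kˣ) →* GL chevG2.Idx K := Ok.tG chevG2 K

omit [Fintype K] in
theorem tt_injective : Function.Injective (tt K) := by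
  rw [← MonoidHom.ker_eq_bot_iff]
  exact St.torus_ker_trivial SG.ok St.okTorus_G2

omit [Fintype K] in
theorem diag_eq : chevG2.diagonalSubgroup K = (tt K).range := SG.ok.diagonalSubgroup_eq

omit [Fintype K] in
theorem hG_eq_tt (i : Fin 2) (t : Kˣ) : SG.ok.hG (chevG2.simple i) (t : K) = tt K (Pi.mulSingle i t) :=
  SG.ok.hG_simple_eq_tG i t

theorem sg_tG (c : Fin 2 → Kˣ) :
    X.sg (tt K c) = tt K ![c 1 ^ X.e, c 0 ^ (3 * X.e)] := by
  have hs : ∀ (i : Fin 2) (t : Kˣ), X.sg (tt K (Pi.mulSingle (M := fun _ : Fin 2 => Kˣ) i t)) =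
      tt K (Pi.mulSingle (M := fun _ : Fin 2 => Kˣ) (![1, 0] i) (t ^ (![3, 1] i * X.e))) := fun i t => by
    have h1 := hG_eq_tt i t
    have h2 := hG_eq_tt (![1, 0] i : Fin 2) (t ^ (![3, 1] i * X.e))
    have hd : ∀ i : Fin 2, chevG2.simple i < chevG2.nroots ∧ ρ (chevG2.simple i) = chevG2.simple (![1, 0] i : Fin 2) ∧
        isoG2.lm (chevG2.simple i) = ![3, 1] i := by decide +kernel
    rw [← h1, ← h2, X.sg_hG (hd i).1, (hd i).2.1, (hd i).2.2, Units.val_pow_eq_pow_val]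
  have hc : c = Pi.mulSingle 0 (c 0) * Pi.mulSingle 1 (c 1) := by
    funext i; fin_cases i <;> simp
  have hm : ∀ v, tt K v ∈ chevG2.group K := fun v => SG.diag_le_group (by
    rw [diag_eq]; exact ⟨v, rfl⟩)
  conv_lhs => rw [hc, map_mul, X.sg_mul (hm _) (hm _), hs, hs, ← map_mul]
  congr 1
  funext i
  fin_cases i <;> simp [mul_comm]

/-- The parametrisation of the fixed torus. -/
noncomputable def hh (X : Ree K) : Kˣ →* GL chevG2.Idx K :=
  (tt K).comp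
    { toFun := fun t => ![t ^ X.e, t]
      map_one' := funext fun i => by fin_cases i <;> simp
      map_mul' := fun a b => funext fun i => by fin_cases i <;> simp [mul_pow] }

theorem hh_apply (t : Kˣ) : X.hh t = tt K ![t ^ X.e, t] := by
  simp only [hh, MonoidHom.comp_apply, MonoidHom.coe_mk, OneHom.coe_mk]

theorem hh_injective : Function.Injective X.hh := fun a b h => by
  have := congrFun (tt_injective h) 1
  simpa using this

theorem H_fixed : chevG2.diagonalSubgroup K ⊓ X.Gs = X.hh.range := by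
  ext g
  simp only [Subgroup.mem_inf, MonoidHom.mem_range]
  constructor
  · rintro ⟨hd, -, hfix⟩
    rw [diag_eq] at hd
    obtain ⟨c, rfl⟩ := hd
    rw [X.sg_tG] at hfix
    have h0 := congrFun (tt_injective hfix) 0
    simp only [Matrix.cons_val_zero] at h0
    refine ⟨c 1, ?_⟩
    rw [X.hh_apply]
    congr 1
    funext i
    fin_cases i <;> simp [h0]
  · rintro ⟨t, rfl⟩
    have hd : X.hh t ∈ chevG2.diagonalSubgroup K := by
      rw [diag_eq, X.hh_apply]; exact ⟨_, rfl⟩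
    refine ⟨hd, SG.diag_le_group hd, ?_⟩
    rw [X.hh_apply, X.sg_tG]
    refine congrArg _ (funext fun i => ?_)
    fin_cases i
    · simp
    · refine Units.ext ?_
      simp only [Fin.mk_one, Matrix.cons_val_one, Matrix.cons_val_zero,
        Units.val_pow_eq_pow_val, ← pow_mul]
      rw [show X.e * (3 * X.e) = 3 * X.e * X.e by ring, X.pow_q]

/-- The word of a fixed element of `U` with free coefficients. -/
noncomputable def w6 (s7 s6 s8 s9 s10 s11 : K) : GL chevG2.Idx K :=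
  SG.ok.xG 7 s7 * SG.ok.xG 6 s6 * (SG.ok.xG 8 s8 * SG.ok.xG 9 s9 * SG.ok.xG 10 s10 * SG.ok.xG 11 s11)

omit [Fintype K] in
theorem comm_of_terms {r s : ℕ} (hr : r < chevG2.nroots) (hs : s < chevG2.nroots) (h1 : s ≠ r)
    (h2 : s ≠ chevG2.neg r) (h : chevG2.commTerms r s = []) (t u : K) :
    Commute (SG.ok.xG r t) (SG.ok.xG s u) := by
  have e := SG.ok.commRel SG.chain SG.base hr hs h1 h2 t u
  rw [ChevalleyDatum.commWord, h, List.map_nil, Ok.wG, List.map_nil, List.prod_nil, mul_one] at e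
  exact e.symm

theorem terms_G2 : chevG2.commTerms 7 6 = [(8, -1, 1, 1), (9, 1, 2, 1), (10, 1, 3, 1), (11, 1, 3, 2)] ∧
    (∀ r ∈ [8, 9, 10, 11], ∀ s ∈ [8, 9, 10, 11], r ≠ s →
      (r = 8 ∧ s = 9) ∨ (r = 9 ∧ s = 8) ∨ (chevG2.commTerms r s = [] ∧ s ≠ chevG2.neg r)) ∧
    chevG2.commTerms 8 9 = [(11, 3, 1, 1)] := by decide +kernel

theorem comm_high [CharP K 3] {r s : ℕ} (hr : r ∈ [8, 9, 10, 11]) (hs : s ∈ [8, 9, 10, 11]) (t u : K) :
    Commute (SG.ok.xG r t) (SG.ok.xG s u) := by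
  have hlt : ∀ {r : ℕ}, r ∈ [8, 9, 10, 11] → r < chevG2.nroots := fun {r} hr => by
    simp only [List.mem_cons, List.not_mem_nil, or_false] at hr
    show r < 12
    omega
  by_cases e : r = s
  · subst e
    show _ * _ = _ * _
    rw [SG.ok.xG_mul, SG.ok.xG_mul, add_comm]
  have key : ∀ t u : K, Commute (SG.ok.xG 8 t) (SG.ok.xG 9 u) := fun t u => by
    have h := SG.ok.commRel SG.chain SG.base (r := 8) (s := 9) (by decide +kernel) (by decide +kernel)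
      (by decide) (by decide +kernel) t u
    rw [ChevalleyDatum.commWord, terms_G2.2.2] at h
    have h3 : ((3 : ℤ) : K) = 0 := by exact_mod_cast CharP.cast_eq_zero K 3
    simp only [List.map_cons, List.map_nil, h3, zero_mul, Ok.wG, List.prod_cons, List.prod_nil,
      SG.ok.xG_zero, mul_one] at h
    exact h.symm
  rcases terms_G2.2.1 r hr s hs e with ⟨rfl, rfl⟩ | ⟨rfl, rfl⟩ | ⟨h1, h2⟩
  · exact key t u
  · exact (key u t).symm
  · exact comm_of_terms (hlt hr) (hlt hs) (Ne.symm e) h2 h1 t u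

theorem high_mul [CharP K 3] (a8 a9 a10 a11 b8 b9 b10 b11 : K) :
    SG.ok.xG 8 a8 * SG.ok.xG 9 a9 * SG.ok.xG 10 a10 * SG.ok.xG 11 a11 *
      (SG.ok.xG 8 b8 * SG.ok.xG 9 b9 * SG.ok.xG 10 b10 * SG.ok.xG 11 b11) =
    SG.ok.xG 8 (a8 + b8) * SG.ok.xG 9 (a9 + b9) * SG.ok.xG 10 (a10 + b10) * SG.ok.xG 11 (a11 + b11) := by
  rw [← SG.ok.xG_mul 8, ← SG.ok.xG_mul 9, ← SG.ok.xG_mul 10, ← SG.ok.xG_mul 11]
  have c1 := comm_high (r := 8) (s := 9) (by simp) (by simp) b8 a9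
  have c2 := comm_high (r := 8) (s := 10) (by simp) (by simp) b8 a10
  have c3 := comm_high (r := 8) (s := 11) (by simp) (by simp) b8 a11
  have c4 := comm_high (r := 9) (s := 10) (by simp) (by simp) b9 a10
  have c5 := comm_high (r := 9) (s := 11) (by simp) (by simp) b9 a11
  have c6 := comm_high (r := 10) (s := 11) (by simp) (by simp) b10 a11
  calc _ = SG.ok.xG 8 a8 * SG.ok.xG 9 a9 * SG.ok.xG 10 a10 * (SG.ok.xG 11 a11 * SG.ok.xG 8 b8) *
        SG.ok.xG 9 b9 * SG.ok.xG 10 b10 * SG.ok.xG 11 b11 := by simp only [mul_assoc]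
    _ = SG.ok.xG 8 a8 * SG.ok.xG 9 a9 * (SG.ok.xG 10 a10 * SG.ok.xG 8 b8) * (SG.ok.xG 11 a11 *
        SG.ok.xG 9 b9) * SG.ok.xG 10 b10 * SG.ok.xG 11 b11 := by rw [← c3.eq]; simp only [mul_assoc]
    _ = SG.ok.xG 8 a8 * (SG.ok.xG 9 a9 * SG.ok.xG 8 b8) * (SG.ok.xG 10 a10 * SG.ok.xG 9 b9) *
        (SG.ok.xG 11 a11 * SG.ok.xG 10 b10) * SG.ok.xG 11 b11 := by
          rw [← c2.eq, ← c5.eq]; simp only [mul_assoc]
    _ = _ := by rw [← c1.eq, ← c4.eq, ← c6.eq]; simp only [mul_assoc]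

theorem swap67 (t u : K) : SG.ok.xG 6 u * SG.ok.xG 7 t = SG.ok.xG 7 t * SG.ok.xG 6 u *
    (SG.ok.xG 8 (t * u) * SG.ok.xG 9 (t ^ 2 * u) * SG.ok.xG 10 (-(t ^ 3 * u)) * SG.ok.xG 11 (-(t ^ 3 * u ^ 2))) := by
  have h := SG.ok.commRel SG.chain SG.base (r := 7) (s := 6) (by decide +kernel) (by decide +kernel) (by decide)
    (by decide +kernel) t u
  rw [ChevalleyDatum.commWord, terms_G2.1] at h
  simp only [List.map_cons, List.map_nil, Ok.wG, List.prod_cons, List.prod_nil, mul_one] at h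
  rw [h]
  simp only [mul_assoc, Int.cast_neg, Int.cast_one, neg_mul, one_mul, pow_one, neg_neg, neg_sq]
  rw [Odd.neg_pow (by decide : Odd 3)]
  simp only [mul_assoc, neg_mul]

theorem w6_eq_pw (s : ℕ → K) : ∀ [CharP K 3],
    SG.pw 6 s = w6 (s 7) (s 6) (s 8 + s 7 * s 6) (s 9 + s 7 ^ 2 * s 6) (s 10 - s 7 ^ 3 * s 6)
      (s 11 - s 7 ^ 3 * s 6 ^ 2) := by
  intro _
  have e : List.range' 6 (chevG2.nroots - 6) = [6, 7, 8, 9, 10, 11] := by decide +kernel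
  rw [Struct.pw, e]
  simp only [List.map_cons, List.map_nil, List.prod_cons, List.prod_nil, mul_one]
  rw [← mul_assoc (SG.ok.xG 6 _), swap67, w6, mul_assoc, ← mul_assoc (SG.ok.xG 8 (s 8)) (SG.ok.xG 9 (s 9)),
    ← mul_assoc (SG.ok.xG 8 (s 8) * SG.ok.xG 9 (s 9)), high_mul]
  simp only [add_comm (s 7 * s 6), add_comm (s 7 ^ 2 * s 6), neg_add_eq_sub, sub_eq_add_neg]

theorem w6_inj {a b c d f g a' b' c' d' f' g' : K} [CharP K 3] (h : w6 a b c d f g = w6 a' b' c' d' f' g') :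
    a = a' ∧ b = b' ∧ c = c' ∧ d = d' ∧ f = f' ∧ g = g' := by
  let S : K → K → K → K → K → K → ℕ → K := fun a b c d f g r =>
    [b, a, c - a * b, d - a ^ 2 * b, f + a ^ 3 * b, g + a ^ 3 * b ^ 2].getD (r - 6) 0
  have key : ∀ a b c d f g : K, SG.pw 6 (S a b c d f g) = w6 a b c d f g := fun a b c d f g => by
    rw [w6_eq_pw]; simp [S]
  rw [← key, ← key] at h
  have h2 := SG.pw_inj 6 6 rfl le_rfl _ _ h
  have h6 := h2 6 le_rfl (by decide +kernel)
  have h7 := h2 7 (by omega) (by decide +kernel)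
  have h8 := h2 8 (by omega) (by decide +kernel)
  have h9 := h2 9 (by omega) (by decide +kernel)
  have h10 := h2 10 (by omega) (by decide +kernel)
  have h11 := h2 11 (by omega) (by decide +kernel)
  simp [S] at h6 h7 h8 h9 h10 h11
  subst h6 h7
  exact ⟨rfl, rfl, by linear_combination h8, by linear_combination h9, by linear_combination h10,
    by linear_combination h11⟩

theorem exists_w6 [CharP K 3] {g : GL chevG2.Idx K} (hg : g ∈ chevG2.posUnipotent K) :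
    ∃ a b c d f h : K, g = w6 a b c d f h := by
  rw [SG.posUnipotent_eq] at hg
  obtain ⟨t, rfl⟩ := SG.exists_pw 6 6 rfl le_rfl g hg
  exact ⟨_, _, _, _, _, _, w6_eq_pw t⟩

theorem sg_w6 [CharP K 3] (a b c d f g : K) :
    X.sg (w6 a b c d f g) = w6 (b ^ X.e) (a ^ (3 * X.e))
      (b ^ X.e * a ^ (3 * X.e) + f ^ X.e) ((b ^ X.e) ^ 2 * a ^ (3 * X.e) + g ^ X.e)
      (-((b ^ X.e) ^ 3 * a ^ (3 * X.e)) + c ^ (3 * X.e))
      (-((b ^ X.e) ^ 3 * (a ^ (3 * X.e)) ^ 2) + d ^ (3 * X.e)) := by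
  have e : w6 a b c d f g = SG.ok.wG [(7, a), (6, b), (8, c), (9, d), (10, f), (11, g)] := by
    simp [w6, Ok.wG, mul_assoc]
  have hρ : ρ 7 = 6 ∧ ρ 6 = 7 ∧ ρ 8 = 10 ∧ ρ 9 = 11 ∧ ρ 10 = 8 ∧ ρ 11 = 9 ∧ isoG2.lm 7 = 3 ∧ isoG2.lm 6 = 1 ∧
      isoG2.lm 8 = 3 ∧ isoG2.lm 9 = 3 ∧ isoG2.lm 10 = 1 ∧ isoG2.lm 11 = 1 := by decide +kernel
  obtain ⟨p1, p2, p3, p4, p5, p6, l1, l2, l3, l4, l5, l6⟩ := hρ
  rw [e, X.sg_wG _ (by simp; decide +kernel)]
  simp only [List.map_cons, List.map_nil, p1, p2, p3, p4, p5, p6, l1, l2, l3, l4, l5, l6, one_mul, Ok.wG,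
    List.prod_cons, List.prod_nil, mul_one]
  rw [w6, ← mul_assoc (SG.ok.xG 6 _), swap67]
  have hz := high_mul (b ^ X.e * a ^ (3 * X.e)) ((b ^ X.e) ^ 2 * a ^ (3 * X.e))
    (-((b ^ X.e) ^ 3 * a ^ (3 * X.e))) (-((b ^ X.e) ^ 3 * (a ^ (3 * X.e)) ^ 2)) (f ^ X.e) (g ^ X.e)
    (c ^ (3 * X.e)) (d ^ (3 * X.e))
  have c1 := comm_high (r := 10) (s := 8) (by simp) (by simp) (c ^ (3 * X.e)) (f ^ X.e)
  have c2 := comm_high (r := 11) (s := 8) (by simp) (by simp) (d ^ (3 * X.e)) (f ^ X.e)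
  have c3 := comm_high (r := 11) (s := 9) (by simp) (by simp) (d ^ (3 * X.e)) (g ^ X.e)
  have c4 := comm_high (r := 10) (s := 9) (by simp) (by simp) (c ^ (3 * X.e)) (g ^ X.e)
  rw [← hz]
  have : SG.ok.xG 10 (c ^ (3 * X.e)) * (SG.ok.xG 11 (d ^ (3 * X.e)) * (SG.ok.xG 8 (f ^ X.e) * SG.ok.xG 9 (g ^ X.e))) =
      SG.ok.xG 8 (f ^ X.e) * SG.ok.xG 9 (g ^ X.e) * SG.ok.xG 10 (c ^ (3 * X.e)) * SG.ok.xG 11 (d ^ (3 * X.e)) := by
    calc _ = (SG.ok.xG 10 (c ^ (3 * X.e)) * SG.ok.xG 11 (d ^ (3 * X.e))) *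
          (SG.ok.xG 8 (f ^ X.e) * SG.ok.xG 9 (g ^ X.e)) := by simp only [mul_assoc]
      _ = (SG.ok.xG 8 (f ^ X.e) * SG.ok.xG 9 (g ^ X.e)) *
          (SG.ok.xG 10 (c ^ (3 * X.e)) * SG.ok.xG 11 (d ^ (3 * X.e))) :=
        ((c1.mul_left c2).mul_right (c4.mul_left c3)).eq
      _ = _ := by simp only [mul_assoc]
  rw [← this]
  simp only [mul_assoc]

/-- The elements of `reeWordU`. -/
noncomputable def uu (X : Ree K) (t u v : K) : GL chevG2.Idx K :=
  w6 (t ^ X.e) t (t ^ (X.e + 1) + u ^ X.e) (t ^ (2 * X.e + 1) + v ^ X.e) u v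

theorem U_fixed [CharP K 3] {g : GL chevG2.Idx K} (hg : g ∈ chevG2.posUnipotent K) :
    X.sg g = g ↔ ∃ t u v, g = X.uu t u v := by
  constructor
  · intro hfix
    obtain ⟨a, b, c, d, f, h, rfl⟩ := exists_w6 hg
    rw [X.sg_w6] at hfix
    obtain ⟨h1, h2, h3, h4, -, -⟩ := w6_inj hfix
    refine ⟨b, f, h, ?_⟩
    rw [uu, h1, ← h3, ← h4, h2, ← h1]
    congr 1 <;> ring
  · rintro ⟨t, u, v, rfl⟩
    rw [uu, X.sg_w6]
    have ha : (t ^ X.e) ^ (3 * X.e) = t := by rw [← pow_mul, show X.e * (3 * X.e) = 3 * X.e * X.e by ring, X.pow_q]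
    have hu : ∀ x : K, (x ^ X.e) ^ (3 * X.e) = x := fun x => by
      rw [← pow_mul, show X.e * (3 * X.e) = 3 * X.e * X.e by ring, X.pow_q]
    rw [ha]
    congr 1
    · ring
    · ring
    · rw [X.pow_3e_add, hu, ← pow_mul t (X.e + 1), show (X.e + 1) * (3 * X.e) = 3 * X.e * X.e + 3 * X.e by ring,
        pow_add, X.pow_q, ← pow_mul, show t ^ (X.e * 3) = t ^ (3 * X.e) by rw [mul_comm]]
      ring
    · rw [X.pow_3e_add, hu, ← pow_mul t (2 * X.e + 1),
        show (2 * X.e + 1) * (3 * X.e) = 3 * X.e * X.e + 3 * X.e * X.e + 3 * X.e by ring,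
        pow_add, pow_add, X.pow_q, ← pow_mul, show t ^ (X.e * 3) = t ^ (3 * X.e) by rw [mul_comm]]
      ring

end Ree

end Cfsg.Lib.Chev.Ree
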